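import Cfsg.Agent.Fg24.M11.Ident
import Cfsg.Agent.SmallOrder.Elements

/-!
# Recognition of a simple group of order 7920 from its elements of orders 5 and 11
-/

set_option autoImplicit false
set_option linter.unusedSectionVars false

open Cfsg

namespace Cfsg.Agent.Fg24.M11

universe u

local instance fact_five_nse : Fact (Nat.Prime 5) := ⟨by norm_num⟩

local instance fact_eleven_nse : Fact (Nat.Prime 11) := ⟨by norm_num⟩

section Arith

variable {G : Type u} [Group G] [Finite G] (hG : Nat.card G = 7920)
include hG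

theorem sylow_card_prime {p : ℕ} [Fact p.Prime] (hp : p = 5 ∨ p = 11) (P : Sylow p G) :
    Nat.card (P : Subgroup G) = p := by
  obtain ⟨n, hn⟩ := P.isPGroup'.exists_card_eq
  have hd : p ^ n ∣ 7920 := by rw [← hn, ← hG]; exact Subgroup.card_subgroup_dvd_card _
  have h1 : p ∣ p ^ n := by
    rw [← hn]
    exact P.dvd_card_of_dvd_card (by rw [hG]; rcases hp with rfl | rfl <;> norm_num)
  match n with
  | 0 =>
    rw [pow_zero, Nat.dvd_one] at h1
    exact absurd h1 (Fact.out : p.Prime).ne_one
  | 1 => rw [hn, pow_one]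
  | n + 2 =>
    exfalso
    have := (pow_dvd_pow p (Nat.le_add_left 2 n)).trans hd
    rcases hp with rfl | rfl <;> norm_num at this

theorem count_prime {p : ℕ} [Fact p.Prime] (hp : p = 5 ∨ p = 11) :
    Nat.card {g : G // orderOf g = p} = Nat.card (Sylow p G) * (p - 1) :=
  SmallOrder.card_orderOf_eq_mul (sylow_card_prime hG hp)

theorem zpowers_sylow {p : ℕ} [Fact p.Prime] (hp : p = 5 ∨ p = 11) {g : G} (hg : orderOf g = p) :
    ∃ P : Sylow p G, (P : Subgroup G) = Subgroup.zpowers g := by
  obtain ⟨P, hP⟩ := (IsPGroup.of_card (p := p) (n := 1)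
    (by rw [Nat.card_zpowers, hg, pow_one]) : IsPGroup p (Subgroup.zpowers g)).exists_le_sylow
  exact ⟨P, (Subgroup.eq_of_le_of_card_ge hP
    (by rw [Nat.card_zpowers, hg, sylow_card_prime hG hp P])).symm⟩

theorem card_normalizer_zpowers {p : ℕ} [Fact p.Prime] (hp : p = 5 ∨ p = 11) {g : G}
    (hg : orderOf g = p) :
    Nat.card (Sylow p G) *
      Nat.card (Subgroup.normalizer ((Subgroup.zpowers g : Subgroup G) : Set G)) = 7920 := by
  obtain ⟨P, hP⟩ := zpowers_sylow hG hp hg
  rw [Sylow.card_eq_index_normalizer P, mul_comm, ← hG, ← hP]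
  exact Subgroup.card_mul_index _

/-- With 144 Sylow 11-subgroups and 396 Sylow 5-subgroups no element of order 11 commutes with
one of order 5. -/
theorem centralizer_eleven (h11 : Nat.card (Sylow 11 G) = 144) (h5 : Nat.card (Sylow 5 G) = 396)
    {g : G} (hg : orderOf g = 11) : Nat.card (Subgroup.centralizer ({g} : Set G)) = 11 := by
  have hN := card_normalizer_zpowers hG (Or.inr rfl) hg
  rw [h11] at hN
  have hle : ∀ x : G, Subgroup.centralizer ({x} : Set G) ≤
      Subgroup.normalizer ((Subgroup.zpowers x : Subgroup G) : Set G) := fun x => by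
    rw [← Subgroup.centralizer_closure, ← Subgroup.zpowers_eq_closure]
    exact Subgroup.centralizer_le_normalizer _
  have hd := Subgroup.card_dvd_of_le (hle g)
  have h55 : Nat.card (Subgroup.normalizer ((Subgroup.zpowers g : Subgroup G) : Set G)) = 55 := by
    omega
  rw [h55] at hd
  have hd' : 11 ∣ Nat.card (Subgroup.centralizer ({g} : Set G)) := by
    rw [← hg]
    exact Subgroup.orderOf_dvd_natCard _ (Subgroup.mem_centralizer_singleton_iff.2 rfl)
  have hne : ¬ 5 ∣ Nat.card (Subgroup.centralizer ({g} : Set G)) := fun h => by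
    obtain ⟨⟨a, ha⟩, hao⟩ := exists_prime_orderOf_dvd_card' 5 h
    replace hao : orderOf a = 5 := (Subgroup.orderOf_coe ⟨a, ha⟩).trans hao
    have hga : g ∈ Subgroup.centralizer ({a} : Set G) :=
      Subgroup.mem_centralizer_singleton_iff.2 (Subgroup.mem_centralizer_singleton_iff.1 ha).symm
    have h2 := (Subgroup.orderOf_dvd_natCard _ (hle a hga))
    have h3 := card_normalizer_zpowers hG (Or.inl rfl) hao
    rw [h5] at h3
    rw [hg] at h2
    omega
  have hdiv : ∀ c, c < 56 → c ∣ 55 → 11 ∣ c → ¬ 5 ∣ c → c = 11 := by decide +kernel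
  exact hdiv _ (Nat.lt_succ_of_le (Nat.le_of_dvd (by norm_num) hd)) hd hd' hne

theorem simple_of_eleven (h11 : Nat.card (Sylow 11 G) = 144)
    (hC : ∀ g : G, orderOf g = 11 → Nat.card (Subgroup.centralizer ({g} : Set G)) = 11) :
    IsSimpleGroup G := by
  classical
  letI := Fintype.ofFinite G
  haveI : Nontrivial G := Finite.one_lt_card_iff_nontrivial.1 (by rw [hG]; norm_num)
  have h55 : ∀ g : G, orderOf g = 11 →
      Nat.card (Subgroup.normalizer ((Subgroup.zpowers g : Subgroup G) : Set G)) = 55 := fun g hg => by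
    have := card_normalizer_zpowers hG (Or.inr rfl) hg
    rw [h11] at this
    omega
  have small : ∀ K : Subgroup G, K.Normal → ¬ 11 ∣ Nat.card K → K = ⊥ := by
    intro K hK h11K
    by_contra hne
    obtain ⟨q, hq, hqd⟩ := Nat.exists_prime_and_dvd
      (fun h => hne (Subgroup.eq_bot_of_card_eq _ h) : Nat.card K ≠ 1)
    haveI : Fact q.Prime := ⟨hq⟩
    obtain ⟨Q⟩ : Nonempty (Sylow q K) := inferInstance
    obtain ⟨A, hA⟩ : ∃ A, A = Subgroup.normalizer
        (((Q : Subgroup K).map K.subtype : Subgroup G) : Set G) := ⟨_, rfl⟩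
    have hF : A ⊔ K = ⊤ := hA ▸ Sylow.normalizer_sup_eq_top Q
    have hidx : K.index ∣ Nat.card A := by
      have h := Subgroup.relIndex_sup_right (H := A) (K := K)
      rw [hF, Subgroup.relIndex_top_right] at h
      rw [h]
      exact Subgroup.relIndex_dvd_card K A
    have h11A : 11 ∣ Nat.card A := by
      refine dvd_trans ?_ hidx
      have h := Subgroup.card_mul_index K
      rw [hG] at h
      exact ((Nat.Prime.dvd_mul (by norm_num)).1 ⟨720, h⟩).resolve_left h11K
    obtain ⟨⟨g, hgA⟩, hg⟩ := exists_prime_orderOf_dvd_card' 11 h11A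
    replace hg : orderOf g = 11 := (Subgroup.orderOf_coe ⟨g, hgA⟩).trans hg
    -- `g` acts on the Sylow subgroup without fixed points
    obtain ⟨R, hR⟩ : ∃ R, R = (Q : Subgroup K).map K.subtype := ⟨_, rfl⟩
    rw [← hR] at hA
    have hmem : ∀ x : R, g * x * g⁻¹ ∈ R := fun x =>
      (Subgroup.mem_normalizer_iff.1 (show g ∈ Subgroup.normalizer (R : Set G) from hA ▸ hgA) x).1 x.2
    let f : R → R := fun x => ⟨g * x * g⁻¹, hmem x⟩
    have hf : Function.Injective f := fun a b h =>
      Subtype.ext (mul_left_cancel (mul_right_cancel (congrArg Subtype.val h)))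
    let σ : Equiv.Perm R := Equiv.ofBijective f ⟨hf, Finite.surjective_of_injective hf⟩
    have hpow : ∀ (j : ℕ) (x : R), ((σ ^ j) x : G) = g ^ j * x * (g ^ j)⁻¹ := by
      intro j
      induction j with
      | zero => intro x; simp
      | succ j ih =>
        intro x
        rw [pow_succ', Equiv.Perm.mul_apply]
        show g * ((σ ^ j) x : G) * g⁻¹ = _
        rw [ih, pow_succ']
        group
    have hσ : σ ^ 11 ^ 1 = 1 := Equiv.ext fun x => Subtype.ext (by
      rw [hpow, pow_one, ← hg, pow_orderOf_eq_one]; simp)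
    have hfix : σ.supportᶜ = {1} := by
      ext x
      rw [Finset.mem_compl, Equiv.Perm.notMem_support, Finset.mem_singleton]
      refine ⟨fun h => ?_, fun h => Subtype.ext ?_⟩
      · have hxC : (x : G) ∈ Subgroup.centralizer ({g} : Set G) :=
          Subgroup.mem_centralizer_singleton_iff.2
            (mul_inv_eq_iff_eq_mul.1 (congrArg Subtype.val h)).symm
        have h1 := Subgroup.orderOf_dvd_natCard _ hxC
        have hxK : (x : G) ∈ K := (hR.le.trans (Subgroup.map_subtype_le _)) x.2
        have h2 := Subgroup.orderOf_dvd_natCard _ hxK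
        rw [hC g hg] at h1
        rcases (Nat.dvd_prime (by norm_num : Nat.Prime 11)).1 h1 with h1 | h1
        · exact Subtype.ext (orderOf_eq_one_iff.1 h1)
        · exact absurd (h1 ▸ h2) h11K
      · subst h
        show g * ((1 : R) : G) * g⁻¹ = 1
        simp
    have hmod := Equiv.Perm.card_compl_support_modEq hσ
    rw [hfix, Finset.card_singleton, ← Nat.card_eq_fintype_card, hR,
      Subgroup.card_map_of_injective Subtype.coe_injective] at hmod
    obtain ⟨n, hn⟩ := Q.isPGroup'.exists_card_eq
    have hqQ : q ∣ q ^ n := hn ▸ Q.dvd_card_of_dvd_card hqd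
    have hd : q ^ n ∣ 720 := by
      have h1 : Nat.card (Q : Subgroup K) ∣ 7920 :=
        hG ▸ (Subgroup.card_subgroup_dvd_card _).trans (Subgroup.card_subgroup_dvd_card K)
      rw [hn] at h1
      have hco : Nat.Coprime (q ^ n) 11 := by
        refine Nat.Coprime.pow_left n ((Nat.coprime_primes hq (by norm_num)).2 fun h => h11K ?_)
        rwa [h] at hqd
      exact hco.dvd_of_dvd_mul_left (show q ^ n ∣ 11 * 720 from h1)
    have hlist : ∀ d ∈ Nat.divisors 720, d % 11 = 1 → d ∈ [1, 12, 45, 144] := by decide +kernel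
    rw [hn] at hmod
    have hmem' := hlist _ (Nat.mem_divisors.2 ⟨hd, by norm_num⟩) hmod.symm
    have hn0 : n ≠ 0 := by
      rintro rfl
      rw [pow_zero, Nat.dvd_one] at hqQ
      exact hq.ne_one hqQ
    have hpp : IsPrimePow (q ^ n) := hq.isPrimePow.pow hn0
    simp only [List.mem_cons, List.not_mem_nil, or_false] at hmem'
    rcases hmem' with h | h | h | h
    · rw [h] at hpp; exact not_isPrimePow_one hpp
    all_goals
      rw [h] at hpp
      obtain ⟨p, k, hp, -, hpk⟩ := (isPrimePow_nat_iff _).1 hpp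
      have h3 : 3 ∣ p ^ k := by rw [hpk]; norm_num
      have hp3 := ((Nat.prime_dvd_prime_iff_eq Nat.prime_three hp).1
        (Nat.prime_three.dvd_of_dvd_pow h3)).symm
    · have h2 : 2 ∣ p ^ k := by rw [hpk]; norm_num
      have := ((Nat.prime_dvd_prime_iff_eq Nat.prime_two hp).1
        (Nat.prime_two.dvd_of_dvd_pow h2))
      omega
    · have h2 : 5 ∣ p ^ k := by rw [hpk]; norm_num
      have := ((Nat.prime_dvd_prime_iff_eq (by norm_num) hp).1
        ((by norm_num : Nat.Prime 5).dvd_of_dvd_pow h2))
      omega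
    · have h2 : 2 ∣ p ^ k := by rw [hpk]; norm_num
      have := ((Nat.prime_dvd_prime_iff_eq Nat.prime_two hp).1
        (Nat.prime_two.dvd_of_dvd_pow h2))
      omega
  refine ⟨fun N hN => ?_⟩
  by_cases h11N : 11 ∣ Nat.card N
  · refine Or.inr ?_
    obtain ⟨⟨g₀, hg₀N⟩, hg₀⟩ := exists_prime_orderOf_dvd_card' 11 h11N
    replace hg₀ : orderOf g₀ = 11 := (Subgroup.orderOf_coe ⟨g₀, hg₀N⟩).trans hg₀
    have hall : ∀ g : G, orderOf g = 11 → g ∈ N := fun g hg => by
      obtain ⟨P₀, hP₀⟩ := zpowers_sylow hG (Or.inr rfl) hg₀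
      obtain ⟨P, hP⟩ := zpowers_sylow hG (Or.inr rfl) hg
      obtain ⟨a, ha⟩ := MulAction.exists_smul_eq G P₀ P
      have hgP : g ∈ (P : Subgroup G) := hP ▸ Subgroup.mem_zpowers g
      rw [← ha, Sylow.coe_subgroup_smul] at hgP
      obtain ⟨y, hy, rfl⟩ := hgP
      have hyN : y ∈ N := Subgroup.zpowers_le.2 hg₀N (hP₀ ▸ hy)
      exact hN.conj_mem y hyN a
    have hbig : 1441 ≤ Nat.card N := by
      let F : Option {g : G // orderOf g = 11} → N := fun o =>
        o.elim 1 fun g => ⟨g.1, hall g.1 g.2⟩
      have hF : Function.Injective F := by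
        have hne : ∀ g : {g : G // orderOf g = 11}, g.1 ≠ 1 := fun g h => by
          have := g.2
          rw [h, orderOf_one] at this
          omega
        rintro (_ | a) (_ | b) h <;> simp only [F, Option.elim] at h
        · rfl
        · exact absurd (congrArg Subtype.val h).symm (hne b)
        · exact absurd (congrArg Subtype.val h) (hne a)
        · exact congrArg some (Subtype.ext (congrArg Subtype.val h :))
      have := Nat.card_le_card_of_injective F hF
      rwa [Finite.card_option, count_prime hG (Or.inr rfl), h11] at this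
    obtain ⟨A, hA⟩ : ∃ A, A = Subgroup.normalizer
        ((Subgroup.zpowers g₀ : Subgroup G) : Set G) := ⟨_, rfl⟩
    obtain ⟨P, hP⟩ := zpowers_sylow hG (Or.inr rfl) hg₀
    have hle : (P : Subgroup G) ≤ N := hP ▸ Subgroup.zpowers_le.2 hg₀N
    have hmap : ((P.subtype hle : Subgroup N)).map N.subtype = Subgroup.zpowers g₀ := by
      rw [Sylow.coe_subtype, Subgroup.subgroupOf, Subgroup.map_comap_eq_self (by rwa [Subgroup.range_subtype]), hP]
    have hF : A ⊔ N = ⊤ := by
      rw [hA, ← hmap]; exact Sylow.normalizer_sup_eq_top (P.subtype hle)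
    have hidx : N.index ∣ 55 := by
      have h := Subgroup.relIndex_sup_right (H := A) (K := N)
      rw [hF, Subgroup.relIndex_top_right] at h
      rw [h, ← h55 g₀ hg₀, ← hA]
      exact Subgroup.relIndex_dvd_card N A
    have hmul := Subgroup.card_mul_index N
    rw [hG] at hmul
    have hle5 : N.index ≤ 5 := by
      by_contra h
      push Not at h
      nlinarith
    rcases (show N.index = 1 ∨ N.index = 5 by
      have : ∀ i, i ≤ 5 → i ∣ 55 → i = 1 ∨ i = 5 := by decide +kernel
      exact this _ hle5 hidx) with h1 | h1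
    · exact Subgroup.index_eq_one.1 h1
    exfalso
    rw [h1] at hmul
    have hNc : Nat.card N = 1584 := by omega
    have hPN : Nat.card (P.subtype hle : Subgroup N) = 11 := by
      rw [Sylow.coe_subtype, Nat.card_congr (Subgroup.subgroupOfEquivOfLe hle).toEquiv, hP,
        Nat.card_zpowers, hg₀]
    have hnorm : Subgroup.normalizer ((P.subtype hle : Subgroup N) : Set N) =
        (P.subtype hle : Subgroup N) := by
      refine (Subgroup.eq_of_le_of_card_ge Subgroup.le_normalizer ?_).symm
      have hd1 := Subgroup.card_subgroup_dvd_card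
        (Subgroup.normalizer ((P.subtype hle : Subgroup N) : Set N))
      rw [hNc] at hd1
      have hd2 : Nat.card (Subgroup.normalizer ((P.subtype hle : Subgroup N) : Set N)) ∣ 55 := by
        rw [Sylow.coe_subtype, ← Subgroup.subgroupOf_normalizer_eq hle, ← h55 g₀ hg₀, ← hP,
          ← Subgroup.card_map_of_injective N.subtype_injective]
        exact Subgroup.card_dvd_of_le (Subgroup.map_comap_le _ _)
      rw [hPN]
      have := Nat.le_of_dvd (by norm_num) (Nat.dvd_gcd hd1 hd2)
      simpa using this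
    have hcen : Subgroup.normalizer ((P.subtype hle : Subgroup N) : Set N) ≤
        Subgroup.centralizer ((P.subtype hle : Subgroup N) : Set N) := by
      rw [hnorm]
      haveI : IsCyclic (P.subtype hle : Subgroup N) := isCyclic_of_prime_card hPN
      intro a ha
      refine Subgroup.mem_centralizer_iff.2 fun b hb => ?_
      exact congrArg Subtype.val (mul_comm' (⟨b, hb⟩ : (P.subtype hle : Subgroup N)) ⟨a, ha⟩)
    have hc := MonoidHom.ker_transferSylow_isComplement' (P.subtype hle) hcen
    obtain ⟨K, hK⟩ : ∃ K, K = (MonoidHom.transferSylow (P.subtype hle) hcen).ker := ⟨_, rfl⟩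
    haveI hKn : K.Normal := hK ▸ MonoidHom.normal_ker _
    have hKi : K.index = 11 := by rw [hK, hc.symm.index_eq_card, hPN]
    have hKc : Nat.card K = 144 := by
      have := Subgroup.card_mul_index K
      rw [hNc, hKi] at this
      omega
    have hiff : ∀ x : N, x ∈ K ↔ x ^ 144 = 1 := fun x => by
      constructor
      · intro h
        rw [← hKc]
        exact congrArg Subtype.val (pow_card_eq_one' (x := (⟨x, h⟩ : K)))
      · intro h
        have h1 : x ^ 11 ∈ K := hKi ▸ Subgroup.pow_index_mem K x
        have h2 : x = ((x ^ 11) ^ 13)⁻¹ := by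
          refine eq_inv_of_mul_eq_one_left ?_
          rw [← pow_mul, ← pow_succ', h]
        rw [h2]
        exact inv_mem (pow_mem h1 13)
    have hnormal : (K.map N.subtype).Normal := ⟨fun y hy a => by
      obtain ⟨x, hx, rfl⟩ := hy
      refine ⟨⟨a * x * a⁻¹, hN.conj_mem x x.2 a⟩, (hiff _).2 (Subtype.ext ?_), rfl⟩
      show (a * (x : G) * a⁻¹) ^ 144 = 1
      rw [conj_pow, show (x : G) ^ 144 = 1 from congrArg Subtype.val ((hiff x).1 hx)]
      simp⟩
    have hbot := small _ hnormal (by
      rw [Subgroup.card_map_of_injective N.subtype_injective, hKc]; norm_num)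
    have := congrArg (fun S : Subgroup G => Nat.card S) hbot
    simp only [Subgroup.card_bot] at this
    rw [Subgroup.card_map_of_injective N.subtype_injective, hKc] at this
    omega
  · exact Or.inl (small N hN h11N)

theorem simple_of_counts (h11 : Nat.card {g : G // orderOf g = 11} = 1440)
    (h5 : Nat.card {g : G // orderOf g = 5} = 1584) : IsSimpleGroup G := by
  rw [count_prime hG (Or.inr rfl)] at h11
  rw [count_prime hG (Or.inl rfl)] at h5
  exact simple_of_eleven hG (by omega) fun g hg => centralizer_eleven hG (by omega) (by omega) hg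

end Arith

section Simple

variable {G : Type u} [Group G] [Fintype G] [IsSimpleGroup G] (hG : Nat.card G = 7920)
include hG

theorem sylow_counts : Nat.card (Sylow 11 G) = 144 ∧ Nat.card (Sylow 5 G) = 396 := by
  obtain ⟨g, hg⟩ := exists_prime_orderOf_dvd_card' (G := G) 11 (by rw [hG]; norm_num)
  obtain ⟨h, hh⟩ := exists_prime_orderOf_dvd_card' (G := G) 5 (by rw [hG]; norm_num)
  have e1 := card_normalizer_zpowers hG (Or.inr rfl) hg
  have e2 := card_normalizer_zpowers hG (Or.inl rfl) hh
  rw [(prime_data hG (Or.inr rfl) hg).2, if_neg (by norm_num)] at e1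
  rw [(prime_data hG (Or.inl rfl) hh).2, if_pos rfl] at e2
  omega

theorem counts : Nat.card {g : G // orderOf g = 11} = 1440 ∧
    Nat.card {g : G // orderOf g = 5} = 1584 := by
  rw [count_prime hG (Or.inr rfl), count_prime hG (Or.inl rfl), (sylow_counts hG).1,
    (sylow_counts hG).2]
  norm_num

/-- The possible numbers of elements of one order. -/
theorem count_cases (n : ℕ) :
    Nat.card {g : G // orderOf g = n} ∈ [0, 1, 440, 1584, 1440] ∨
      165 ∣ Nat.card {g : G // orderOf g = n} := by
  classical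
  by_cases h0 : IsEmpty {g : G // orderOf g = n}
  · exact Or.inl (by simp)
  obtain ⟨⟨g, hg⟩⟩ := not_isEmpty_iff.1 h0
  have hn0 : n ≠ 0 := by rw [← hg]; exact (orderOf_pos g).ne'
  by_cases h2 : 2 ∣ n
  · refine Or.inr ?_
    obtain ⟨inv, hconj⟩ := inv_data hG
    have hinv : ∀ x : {g : G // orderOf g = n}, orderOf ((x : G) ^ (n / 2)) = 2 := fun x => by
      have h := orderOf_pow_orderOf_div (x := (x : G)) (n := 2) (by rw [x.2]; exact hn0)
        (by rw [x.2]; exact h2)
      rwa [x.2] at h
    let f : {g : G // orderOf g = n} → {t : G // orderOf t = 2} := fun x => ⟨_, hinv x⟩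
    obtain ⟨t₀, ht₀⟩ := exists_prime_orderOf_dvd_card' (G := G) 2 (by rw [hG]; norm_num)
    have hfib : ∀ t : {t : G // orderOf t = 2}, Nat.card {x // f x = t} =
        Nat.card {x // f x = ⟨t₀, ht₀⟩} := by
      intro t
      obtain ⟨a, ha⟩ := isConj_iff.1 (hconj t.1 t₀ t.2 ht₀)
      refine Nat.card_congr (Equiv.subtypeEquiv
        (Equiv.subtypeEquiv (MulAut.conj a).toEquiv fun x => ?_) fun x => ?_)
      · show orderOf x = n ↔ orderOf (MulAut.conj a x) = n
        rw [MulEquiv.orderOf_eq]
      · simp only [f, Subtype.ext_iff, Equiv.subtypeEquiv_apply]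
        show (x : G) ^ (n / 2) = t.1 ↔ (a * x * a⁻¹) ^ (n / 2) = t₀
        rw [conj_pow, ← ha]
        exact ⟨fun h => by rw [h], fun h => mul_left_cancel (mul_right_cancel h)⟩
    letI : Fintype {t : G // orderOf t = 2} := Fintype.ofFinite _
    have h165 : Nat.card {t : G // orderOf t = 2} = 165 := by
      have h1 : Nat.card {t : G // orderOf t = 2} = Nat.card {x : G // IsConj t₀ x} := by
        refine Nat.card_congr (Equiv.subtypeEquivRight fun x => ⟨hconj t₀ x ht₀, fun h => ?_⟩)
        obtain ⟨k, rfl⟩ := isConj_iff.1 h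
        rw [← ht₀]
        exact (MulAut.conj k).orderOf_eq t₀
      rw [h1, Char.card_isConj_eq_index]
      have := card_centralizer_mul_index hG t₀
      rw [inv t₀ ht₀] at this
      omega
    rw [← Nat.card_congr (Equiv.sigmaFiberEquiv f), Nat.card_sigma,
      Finset.sum_congr rfl (fun t _ => hfib t), Finset.sum_const, Finset.card_univ,
      ← Nat.card_eq_fintype_card, h165, smul_eq_mul]
    exact dvd_mul_right _ _
  refine Or.inl ?_
  have key : ∀ p : ℕ, ∀ [Fact p.Prime], (p = 5 ∨ p = 11) → p ∣ n → n = p := by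
    intro p _ hp hpn
    have ho : orderOf (g ^ (n / p)) = p := by
      have h := orderOf_pow_orderOf_div (x := g) (n := p) (by rw [hg]; exact hn0)
        (by rw [hg]; exact hpn)
      rwa [hg] at h
    have hmem : g ∈ Subgroup.centralizer ({g ^ (n / p)} : Set G) :=
      Subgroup.mem_centralizer_singleton_iff.2 ((Commute.refl g).pow_right _).eq
    have h := Subgroup.orderOf_dvd_natCard _ hmem
    rw [(prime_data hG hp ho).1, hg] at h
    exact (((Nat.dvd_prime (Fact.out : p.Prime)).1 h).resolve_left fun h1 => by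
      rw [h1] at hpn
      exact (Fact.out : p.Prime).ne_one (Nat.dvd_one.1 hpn))
  by_cases h5 : 5 ∣ n
  · rw [key 5 (Or.inl rfl) h5, (counts hG).2]; simp
  by_cases h11 : 11 ∣ n
  · rw [key 11 (Or.inr rfl) h11, (counts hG).1]; simp
  have hnd : n ∣ 7920 := hG ▸ hg ▸ orderOf_dvd_natCard g
  have hlist : ∀ d ∈ Nat.divisors 7920, ¬ 2 ∣ d → ¬ 5 ∣ d → ¬ 11 ∣ d → d = 1 ∨ d = 3 ∨ d = 9 := by
    decide +kernel
  rcases hlist n (Nat.mem_divisors.2 ⟨hnd, by norm_num⟩) h2 h5 h11 with rfl | rfl | rfl
  · have : Nat.card {g : G // orderOf g = 1} = 1 := by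
      rw [Nat.card_congr (Equiv.subtypeEquivRight fun x => orderOf_eq_one_iff)]
      simp
    rw [this]; simp
  · have : Nat.card {x : G // orderOf x = 3} = 440 := by
      have h1 : Nat.card {x : G // orderOf x = 3} = Nat.card {x : G // IsConj g x} := by
        refine Nat.card_congr (Equiv.subtypeEquivRight fun x => ⟨three_conj hG hg, fun h => ?_⟩)
        obtain ⟨k, rfl⟩ := isConj_iff.1 h
        rw [← hg]
        exact (MulAut.conj k).orderOf_eq g
      rw [h1, Char.card_isConj_eq_index]
      have := card_centralizer_mul_index hG g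
      rw [three_centralizer hG hg] at this
      omega
    rw [this]; simp
  · exfalso
    obtain ⟨P, hP⟩ := (IsPGroup.of_card (p := 3) (n := 2)
      (by rw [Nat.card_zpowers, hg]; norm_num) : IsPGroup 3 (Subgroup.zpowers g)).exists_le_sylow
    have := orderOf_three hG P (hP (Subgroup.mem_zpowers g)) fun h => by
      rw [h, orderOf_one] at hg; omega
    omega

end Simple

end Cfsg.Agent.Fg24.M11
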