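import Cfsg.Agent.Fg24.M11.Local

/-!
# A simple group of order 7920: the action on the 55 Sylow 3-subgroups has rank three

With `z` a fixed-point-free involution on `P` and `c` an element of order three of `C(z)`, the
`N(P)`-orbit of `x = c • P` has 18 points, and the orbit of a point `w` on which `z` acts as a
reflection has 36 points.
-/

set_option autoImplicit false
set_option linter.unusedSectionVars false

open Cfsg
open scoped Pointwise

namespace Cfsg.Agent.Fg24.M11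

universe u

variable {G : Type u} [Group G] [Fintype G]

theorem card_orbit_mul (H : Subgroup G) (Q : Sylow 3 G) :
    Nat.card (MulAction.orbit H Q) * Nat.card (H ⊓ Nm Q : Subgroup G) = Nat.card H := by
  have h1 := MulAction.index_stabilizer H Q
  have h2 := Subgroup.card_mul_index (MulAction.stabilizer H Q)
  rw [h1, ← Nat.card_coe_set_eq] at h2
  rw [← h2, mul_comm]
  congr 1
  exact Nat.card_congr
    { toFun := fun a => ⟨⟨a.1, a.2.1⟩, mem_Nm_iff.1 a.2.2⟩
      invFun := fun a => ⟨(a.1 : G), a.1.2, mem_Nm_iff.2 a.2⟩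
      left_inv := fun a => rfl
      right_inv := fun a => rfl }

theorem commute_conj {c z : G} (h : Commute c z) : c * z * c⁻¹ = z :=
  mul_inv_eq_of_eq_mul h.eq

/-- A Sylow 3-subgroup, a fixed-point-free involution on it, and an element of order three of its
centralizer. -/
structure Cfg (G : Type u) [Group G] where
  P : Sylow 3 G
  z : G
  c : G
  fpf : Fpf P z
  order_c : orderOf c = 3
  comm : Commute c z

namespace Cfg

variable (F : Cfg G)

/-- The neighbour. -/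
abbrev x : Sylow 3 G := F.c • F.P

/-- The other neighbour fixed by the involution. -/
abbrev y : Sylow 3 G := F.c⁻¹ • F.P

/-- The Sylow 2-subgroup of `N(P)`. -/
abbrev W : Subgroup G := Nm F.P ⊓ Cn F.z

/-- The kernel of the action on the triple. -/
abbrev K : Subgroup G := (Nm F.P ⊓ Cn F.z) ⊓ (Nm F.x ⊓ Cn F.z)

theorem c_pow : F.c * F.c = F.c⁻¹ := by
  refine eq_inv_of_mul_eq_one_left ?_
  have h := pow_orderOf_eq_one F.c
  rwa [F.order_c, pow_three, ← mul_assoc] at h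

theorem c_smul_x : F.c • F.x = F.y := by
  rw [x, y, ← mul_smul, c_pow]

theorem fpf_x : Fpf F.x F.z := by
  have h := fpf_smul F.fpf F.c
  rwa [commute_conj F.comm] at h

theorem fpf_y : Fpf F.y F.z := by
  have h := fpf_smul F.fpf F.c⁻¹
  rwa [commute_conj F.comm.inv_left] at h

theorem z_mem_W : F.z ∈ F.W := ⟨F.fpf.2.1, mem_Cn.2 (Commute.refl _)⟩

theorem z_mem_K : F.z ∈ F.K := ⟨F.z_mem_W, F.fpf_x.2.1, mem_Cn.2 (Commute.refl _)⟩

variable [IsSimpleGroup G] (hG : Nat.card G = 7920)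
include hG

omit F in
theorem exists_cfg : Nonempty (Cfg G) := by
  obtain ⟨P⟩ : Nonempty (Sylow 3 G) := inferInstance
  obtain ⟨W, hW, -⟩ := exists_W hG P (L := ⊥) bot_le IsPGroup.of_bot
  obtain ⟨z, -, hz, -, -⟩ := W_center hG hW
  obtain ⟨c, hc⟩ := exists_prime_orderOf_dvd_card' 3
    (show 3 ∣ Nat.card (Cn z) by rw [(inv_data hG).1 z hz.1]; norm_num)
  exact ⟨⟨P, z, c, hz, by rw [Subgroup.orderOf_coe]; exact hc, mem_Cn.1 c.2⟩⟩

theorem not_mem_Nm_P : F.c ∉ Nm F.P := fun h => by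
  have h1 := F.fpf.2.2 F.c (mem_of_Nm hG F.order_c h) F.comm.symm
  have := F.order_c
  rw [h1, orderOf_one] at this
  omega

theorem x_ne_P : F.x ≠ F.P := fun h => F.not_mem_Nm_P hG (mem_Nm_iff.2 h)

theorem y_ne_P : F.y ≠ F.P := fun h => F.not_mem_Nm_P hG
  (inv_inv F.c ▸ (Nm F.P).inv_mem (mem_Nm_iff.2 h))

theorem x_ne_y : F.x ≠ F.y := fun h => F.x_ne_P hG (by
  have h2 : F.c • F.x = F.c • F.y := by rw [h]
  rw [c_smul_x] at h2
  have h3 : F.c • F.y = F.P := by rw [y, smul_inv_smul]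
  rw [h3] at h2
  rw [h]
  exact h2)

/-- An element of order three centralizes at most one involution commuting with another. -/
theorem eq_of_commute_three {c z t : G} (hc : orderOf c = 3) (hz : orderOf z = 2)
    (ht : orderOf t = 2) (hcz : Commute c z) (hct : Commute c t) (hzt : Commute z t) : t = z := by
  haveI : Fact (Nat.Prime 2) := ⟨Nat.prime_two⟩
  obtain ⟨Q, hQ⟩ := (IsPGroup.of_card (p := 3) (n := 1)
    (by rw [Nat.card_zpowers, hc, pow_one]) : IsPGroup 3 (Subgroup.zpowers c)).exists_le_sylow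
  have hcQ := hQ (Subgroup.mem_zpowers c)
  have hle := Cn_le_Nm hG Q hc hcQ
  have hnorm : Subgroup.zpowers t ≤
      Subgroup.normalizer ((Subgroup.zpowers z : Subgroup G) : Set G) := by
    refine le_trans ?_ (Subgroup.centralizer_le_normalizer _)
    rw [Subgroup.zpowers_le]
    refine Subgroup.mem_centralizer_iff.2 fun g hg => ?_
    obtain ⟨k, rfl⟩ := Subgroup.mem_zpowers_iff.1 hg
    exact (hzt.zpow_left k).eq
  have hL : IsPGroup 2 (Subgroup.zpowers z ⊔ Subgroup.zpowers t : Subgroup G) :=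
    (IsPGroup.of_card (p := 2) (n := 1) (by rw [Nat.card_zpowers, hz, pow_one]) :
      IsPGroup 2 (Subgroup.zpowers z)).to_sup_of_normal_left'
      (IsPGroup.of_card (p := 2) (n := 1) (by rw [Nat.card_zpowers, ht, pow_one]) :
        IsPGroup 2 (Subgroup.zpowers t)) hnorm
  obtain ⟨W, hW, hLW⟩ := exists_W hG Q (sup_le (Subgroup.zpowers_le.2 (hle (mem_Cn.2 hcz.symm)))
    (Subgroup.zpowers_le.2 (hle (mem_Cn.2 hct.symm)))) hL
  obtain ⟨s, -, -, -, huniq⟩ := W_stab hG hW hcQ (fun h => by rw [h, orderOf_one] at hc; omega)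
  have h1 := huniq z (hLW (Subgroup.mem_sup_left (Subgroup.mem_zpowers z))) hcz.symm
  have h2 := huniq t (hLW (Subgroup.mem_sup_right (Subgroup.mem_zpowers t))) hct.symm
  rcases h1 with h1 | h1
  · rw [h1, orderOf_one] at hz; omega
  rcases h2 with h2 | h2
  · rw [h2, orderOf_one] at ht; omega
  rw [h1, h2]

/-- `c` does not stabilize the set of reflections of `W`. -/
theorem not_stable (h : ∀ t ∈ F.W, orderOf t = 2 → t ≠ F.z → F.c * t * F.c⁻¹ ∈ F.W) : False := by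
  classical
  haveI : Fact (Nat.Prime 3) := ⟨Nat.prime_three⟩
  have h4 := (refl_data hG (isW_inf hG F.fpf) F.z_mem_W F.fpf).1
  let T := {t : G // t ∈ F.W ∧ orderOf t = 2 ∧ t ≠ F.z}
  let f : T → T := fun t => ⟨F.c * t.1 * F.c⁻¹, h t.1 t.2.1 t.2.2.1 t.2.2.2,
    ((MulAut.conj F.c).orderOf_eq t.1).trans t.2.2.1, fun he => t.2.2.2 (by
      have : F.c * t.1 * F.c⁻¹ = F.c * F.z * F.c⁻¹ := by rw [he, commute_conj F.comm]
      exact mul_left_cancel (mul_right_cancel this))⟩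
  have hf : Function.Injective f := fun a b hab => Subtype.ext
    (mul_left_cancel (mul_right_cancel (congrArg Subtype.val hab)))
  let σ : Equiv.Perm T := Equiv.ofBijective f ⟨hf, Finite.surjective_of_injective hf⟩
  have hσ : σ ^ 3 ^ 1 = 1 := by
    rw [pow_one, pow_three]
    refine Equiv.ext fun t => Subtype.ext ?_
    show F.c * (F.c * (F.c * t.1 * F.c⁻¹) * F.c⁻¹) * F.c⁻¹ = t.1
    have h3 := pow_orderOf_eq_one F.c
    rw [F.order_c, pow_three] at h3
    calc F.c * (F.c * (F.c * t.1 * F.c⁻¹) * F.c⁻¹) * F.c⁻¹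
        = (F.c * (F.c * F.c)) * t.1 * (F.c * (F.c * F.c))⁻¹ := by group
      _ = t.1 := by rw [h3]; group
  obtain ⟨t, ht⟩ := Equiv.Perm.exists_fixed_point_of_prime
    (show ¬ 3 ∣ Fintype.card T by rw [← Nat.card_eq_fintype_card, h4]; norm_num) hσ
  have hct : Commute F.c t.1 := mul_inv_eq_iff_eq_mul.1 (congrArg Subtype.val ht)
  exact t.2.2.2 (eq_of_commute_three hG F.order_c F.fpf.1 t.2.2.1 F.comm hct
    (mem_Cn.1 t.2.1.2).symm)

theorem W_not_le : ¬ F.W ≤ Nm F.x ⊓ Cn F.z := by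
  intro h
  have heq : F.W = Nm F.x ⊓ Cn F.z := Subgroup.eq_of_le_of_card_ge h
    (by rw [(isW_inf hG F.fpf).card, (isW_inf hG F.fpf_x).card])
  refine F.not_stable hG fun t ht _ _ => ?_
  rw [heq]
  refine ⟨conj_mem_Nm ht.1 F.c, mem_Cn.2 ?_⟩
  have h1 := (Commute.conj_iff F.c).2 (mem_Cn.1 ht.2)
  rwa [commute_conj F.comm] at h1

theorem card_K : Nat.card F.K = 8 := by
  have hW := (isW_inf hG F.fpf).card
  obtain ⟨W', hW'⟩ : ∃ W', W' = Nm F.x ⊓ Cn F.z := ⟨_, rfl⟩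
  have hW'c : Nat.card W' = 16 := hW' ▸ (isW_inf hG F.fpf_x).card
  have hC := (inv_data hG).1 F.z F.fpf.1
  have h1 : W'.relIndex (Cn F.z) = 3 := by
    have h := Subgroup.card_mul_index (W'.subgroupOf (Cn F.z))
    rw [Nat.card_congr (Subgroup.subgroupOfEquivOfLe (hW' ▸ inf_le_right)).toEquiv, hW'c, hC] at h
    change 16 * W'.relIndex (Cn F.z) = 48 at h
    omega
  have h2 : W'.relIndex F.W ≤ 3 := by
    rw [← h1]
    exact Subgroup.relIndex_le_of_le_right inf_le_right (by rw [h1]; norm_num)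
  have h3 := Subgroup.card_mul_index (W'.subgroupOf F.W)
  rw [hW] at h3
  have h4 : Nat.card (W'.subgroupOf F.W) = Nat.card F.K := by
    rw [K, ← hW']
    exact Nat.card_congr
      { toFun := fun a => ⟨(a.1 : G), a.1.2, Subgroup.mem_subgroupOf.1 a.2⟩
        invFun := fun a => ⟨⟨a.1, a.2.1⟩, Subgroup.mem_subgroupOf.2 a.2.2⟩
        left_inv := fun a => rfl
        right_inv := fun a => rfl }
  rw [h4] at h3
  change Nat.card F.K * W'.relIndex F.W = 16 at h3
  have h5 : W'.relIndex F.W ≠ 1 := fun h =>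
    F.W_not_le hG (hW' ▸ Subgroup.relIndex_eq_one.1 h)
  have h6 : 0 < Nat.card F.K := Nat.card_pos
  interval_cases hr : W'.relIndex F.W <;> omega

omit F in
theorem normalizes_of_index_two {K W : Subgroup G} (hKW : K ≤ W) (hW : Nat.card W = 16)
    (hK : Nat.card K = 8) : W ≤ Subgroup.normalizer (K : Set G) := by
  have hidx : (K.subgroupOf W).index = 2 := by
    have h := Subgroup.card_mul_index (K.subgroupOf W)
    rw [Nat.card_congr (Subgroup.subgroupOfEquivOfLe hKW).toEquiv, hK, hW] at h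
    omega
  exact (Subgroup.normal_subgroupOf_iff_le_normalizer hKW).1 (Subgroup.normal_of_index_eq_two hidx)

theorem W_norm_K : F.W ≤ Subgroup.normalizer (F.K : Set G) :=
  normalizes_of_index_two hG inf_le_left (isW_inf hG F.fpf).card (F.card_K hG)

theorem c_norm_K : F.c ∈ Subgroup.normalizer (F.K : Set G) := by
  have h1 := F.W_norm_K hG
  have h2 : Nm F.x ⊓ Cn F.z ≤ Subgroup.normalizer (F.K : Set G) :=
    normalizes_of_index_two hG inf_le_right (isW_inf hG F.fpf_x).card (F.card_K hG)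
  obtain ⟨H, hH⟩ : ∃ H : Subgroup G, H = Subgroup.normalizer (F.K : Set G) ⊓ Cn F.z := ⟨_, rfl⟩
  have hWH : F.W ≤ H := hH ▸ le_inf h1 inf_le_right
  have hW'H : Nm F.x ⊓ Cn F.z ≤ H := hH ▸ le_inf h2 inf_le_right
  have h16 := Subgroup.card_dvd_of_le hWH
  rw [(isW_inf hG F.fpf).card] at h16
  have h48 : Nat.card H ∣ 48 := by
    rw [← (inv_data hG).1 F.z F.fpf.1, hH]; exact Subgroup.card_dvd_of_le inf_le_right
  have hne : Nat.card H ≠ 16 := fun h => by
    have e1 := Subgroup.eq_of_le_of_card_ge hWH (by rw [h, (isW_inf hG F.fpf).card])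
    exact F.W_not_le hG (e1 ▸ hW'H |> fun h' =>
      (Subgroup.eq_of_le_of_card_ge h' (by rw [(isW_inf hG F.fpf).card,
        (isW_inf hG F.fpf_x).card])).ge)
  obtain ⟨k, hk⟩ := h16
  rw [hk] at h48 hne
  have hk3 : k ∣ 3 := Nat.dvd_of_mul_dvd_mul_left (by norm_num) (show 16 * k ∣ 16 * 3 from h48)
  rcases (Nat.dvd_prime Nat.prime_three).1 hk3 with rfl | rfl
  · exact absurd rfl hne
  have heq : H = Cn F.z := Subgroup.eq_of_le_of_card_ge (hH ▸ inf_le_right)
    (by rw [(inv_data hG).1 F.z F.fpf.1, hk])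
  have : F.c ∈ H := heq ▸ mem_Cn.2 F.comm
  exact (hH ▸ this).1

/-- The only involution of `K` is `z`. -/
theorem K_involution {t : G} (ht : t ∈ F.K) (ht2 : orderOf t = 2) : t = F.z := by
  by_contra hne
  have hdata := refl_data hG (isW_inf hG F.fpf) F.z_mem_W F.fpf
  have hall : ∀ s ∈ F.W, orderOf s = 2 → s ≠ F.z → s ∈ F.K := fun s hs hs2 hsz => by
    obtain ⟨w, hw, rfl⟩ := hdata.2.1 t s ⟨ht.1, ht2, hne⟩ ⟨hs, hs2, hsz⟩
    exact (Subgroup.mem_normalizer_iff.1 (F.W_norm_K hG hw) t).1 ht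
  exact F.not_stable hG fun s hs hs2 hsz =>
    ((Subgroup.mem_normalizer_iff.1 (F.c_norm_K hG) s).1 (hall s hs hs2 hsz)).1

/-- `K` is transitive on the nonidentity elements of `P`. -/
theorem K_transitive {u v : G} (hu : u ∈ (F.P : Subgroup G)) (hu1 : u ≠ 1)
    (hv : v ∈ (F.P : Subgroup G)) (hv1 : v ≠ 1) : ∃ k ∈ F.K, k * u * k⁻¹ = v := by
  classical
  let f : F.K → {v : (F.P : Subgroup G) // v ≠ 1} := fun k =>
    ⟨⟨k.1 * u * k.1⁻¹, conj_mem_of_Nm k.2.1.1 hu⟩, fun h => hu1 (by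
      have h' : k.1 * u * k.1⁻¹ = 1 := congrArg Subtype.val h
      exact conj_eq_one_iff.1 h')⟩
  have hinj : Function.Injective f := by
    intro a b h
    have h' : a.1 * u * a.1⁻¹ = b.1 * u * b.1⁻¹ := congrArg (fun w => (w.1 : G)) h
    have hcu : Commute (b.1⁻¹ * a.1) u := by
      show b.1⁻¹ * a.1 * u = u * (b.1⁻¹ * a.1)
      calc b.1⁻¹ * a.1 * u = b.1⁻¹ * (a.1 * u * a.1⁻¹) * a.1 := by group
        _ = u * (b.1⁻¹ * a.1) := by rw [h']; group
    obtain ⟨t, htW, ht2, htu, huniq⟩ := W_stab hG (isW_inf hG F.fpf) hu hu1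
    have hmem : b.1⁻¹ * a.1 ∈ F.K := mul_mem (inv_mem b.2) a.2
    rcases huniq _ hmem.1 hcu with h1 | h1
    · exact Subtype.ext (inv_mul_eq_one.1 h1).symm
    · exfalso
      have h2 := F.K_involution hG (h1 ▸ hmem) ht2
      exact hu1 (F.fpf.2.2 u hu (h2 ▸ htu))
  have hsurj := ((Nat.bijective_iff_injective_and_card f).2 ⟨hinj, by
    rw [F.card_K hG, Nat.card_eq_fintype_card (α := {v : (F.P : Subgroup G) // v ≠ 1}),
      Fintype.card_subtype_compl, Fintype.card_subtype_eq, ← Nat.card_eq_fintype_card,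
      card_sylow_three hG F.P]⟩).2
  obtain ⟨k, hk⟩ := hsurj ⟨⟨v, hv⟩, fun h => hv1 (congrArg Subtype.val h)⟩
  exact ⟨k, k.2, congrArg (fun w => (w.1 : G)) hk⟩

theorem K_fix_x {k : G} (hk : k ∈ F.K) : k • F.x = F.x := mem_Nm_iff.1 hk.2.1

theorem K_fix_y {k : G} (hk : k ∈ F.K) : k • F.y = F.y := by
  have h1 : F.c⁻¹ * k * F.c ∈ F.K := by
    refine (Subgroup.mem_normalizer_iff.1 (F.c_norm_K hG) _).2 ?_
    rwa [show F.c * (F.c⁻¹ * k * F.c) * F.c⁻¹ = k by group]
  have h2 := conj_mem_Nm h1.2.1 F.c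
  rw [c_smul_x, show F.c * (F.c⁻¹ * k * F.c) * F.c⁻¹ = k by group] at h2
  exact mem_Nm_iff.1 h2

/-- `W` permutes `x` and `y`. -/
theorem W_smul_x {w : G} (hw : w ∈ F.W) : w • F.x = F.x ∨ w • F.x = F.y := by
  classical
  have hcard : Nat.card (MulAction.orbit (Cn F.z) F.P) = 3 := by
    have h := card_orbit_mul (Cn F.z) F.P
    rw [inf_comm, (isW_inf hG F.fpf).card, (inv_data hG).1 F.z F.fpf.1] at h
    omega
  by_contra hne
  push Not at hne
  have hP : w • F.x ≠ F.P := fun h => F.x_ne_P hG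
    (smul_left_cancel w (h.trans (mem_Nm_iff.1 hw.1).symm))
  have hsub : ({F.P, F.x, F.y, w • F.x} : Finset (Sylow 3 G)) ⊆
      (MulAction.orbit (Cn F.z) F.P).toFinset := by
    intro Q hQ
    rw [Set.mem_toFinset]
    simp only [Finset.mem_insert, Finset.mem_singleton] at hQ
    rcases hQ with rfl | rfl | rfl | rfl
    · exact MulAction.mem_orbit_self _
    · exact ⟨⟨F.c, mem_Cn.2 F.comm⟩, rfl⟩
    · exact ⟨⟨F.c⁻¹, mem_Cn.2 F.comm.inv_left⟩, rfl⟩
    · exact ⟨⟨w * F.c, mul_mem hw.2 (mem_Cn.2 F.comm)⟩, mul_smul w F.c F.P⟩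
  have h := Finset.card_le_card hsub
  rw [Set.toFinset_card, ← Nat.card_eq_fintype_card, hcard, Finset.card_insert_of_notMem (by
      simp only [Finset.mem_insert, Finset.mem_singleton, not_or]
      exact ⟨(F.x_ne_P hG).symm, (F.y_ne_P hG).symm, hP.symm⟩),
    Finset.card_insert_of_notMem (by
      simp only [Finset.mem_insert, Finset.mem_singleton, not_or]
      exact ⟨F.x_ne_y hG, hne.1.symm⟩), Finset.card_pair hne.2.symm] at h
  omega

theorem exists_swap : ∃ w ∈ F.W, w • F.x = F.y ∧ w • F.y = F.x := by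
  obtain ⟨w, hw, hwK⟩ : ∃ w ∈ F.W, w ∉ F.K := by
    by_contra h
    push Not at h
    exact F.W_not_le hG fun w hw => (h w hw).2
  have h1 : w • F.x = F.y := (F.W_smul_x hG hw).resolve_left fun h =>
    hwK ⟨hw, mem_Nm_iff.2 h, hw.2⟩
  refine ⟨w, hw, h1, ?_⟩
  rcases F.W_smul_x hG (mul_mem hw hw) with h | h
  · rwa [mul_smul, h1] at h
  · rw [mul_smul, h1] at h
    exact absurd (smul_left_cancel w (h.trans h1.symm)) (F.x_ne_y hG).symm

/-- Stabilizer subgroups of pairs are two-groups in `W` when the involution fixes both points. -/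
theorem stab_eq {Q : Sylow 3 G} (hQ : Q ≠ F.P) (hzQ : F.z ∈ Nm Q) :
    Nm F.P ⊓ Nm Q = F.W ⊓ Nm Q := by
  refine le_antisymm ?_ (inf_le_inf_right _ inf_le_left)
  have h2 : IsPGroup 2 (Nm F.P ⊓ Nm Q : Subgroup G) :=
    two_group_of_noThree hG (by rw [← (card_Nm hG F.P).2]; exact Subgroup.card_dvd_of_le inf_le_left)
      fun g hg h3 => hQ (eq_of_mem_Nm hG (mem_of_Nm hG h3 hg.1)
        (fun h => by rw [h, orderOf_one] at h3; omega) hg.2).symm
  exact le_inf (le_inf inf_le_left (le_Cn hG inf_le_left h2 ⟨F.fpf.2.1, hzQ⟩ F.fpf)) inf_le_right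

theorem card_orbit_x : Nat.card (MulAction.orbit (Nm F.P) F.x) = 18 := by
  have h := card_orbit_mul (Nm F.P) F.x
  have he : F.W ⊓ Nm F.x = F.K := by
    refine le_antisymm (fun g hg => ⟨hg.1, hg.2, hg.1.2⟩) fun g hg => ⟨hg.1, hg.2.1⟩
  rw [F.stab_eq hG (F.x_ne_P hG) F.fpf_x.2.1, he, F.card_K hG, (card_Nm hG F.P).2] at h
  omega

theorem exists_far : ∃ w : Sylow 3 G, w ≠ F.P ∧
    Nat.card (MulAction.orbit (Nm F.P) w) = 36 := by
  classical
  have hdata := refl_data hG (isW_inf hG F.fpf) F.z_mem_W F.fpf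
  obtain ⟨⟨t, htW, ht2, htz⟩⟩ : Nonempty {t : G // t ∈ F.W ∧ orderOf t = 2 ∧ t ≠ F.z} :=
    (Nat.card_pos_iff.1 (by rw [hdata.1]; norm_num)).1
  obtain ⟨z', -, -, -, huniq⟩ := W_center hG (isW_inf hG F.fpf)
  obtain ⟨u, hu, hu1, hut⟩ := (fpf_or_refl hG ht2 htW.1).resolve_left fun h =>
    htz ((huniq t htW h).trans (huniq F.z F.z_mem_W F.fpf).symm)
  obtain ⟨g, hg⟩ := isConj_iff.1 ((inv_data hG).2 t F.z ht2 F.fpf.1)
  obtain ⟨w, hw⟩ : ∃ w, w = g • F.P := ⟨_, rfl⟩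
  have hzw : F.z ∈ Nm w := hw ▸ hg ▸ conj_mem_Nm htW.1 g
  have hv : g * u * g⁻¹ ∈ (w : Subgroup G) := hw ▸ conj_mem_smul hu g
  have hv1 : g * u * g⁻¹ ≠ 1 := fun h => hu1 (conj_eq_one_iff.1 h)
  have hzv : Commute F.z (g * u * g⁻¹) := hg ▸ (Commute.conj_iff g).2 hut
  have hwP : w ≠ F.P := fun h => hv1 (F.fpf.2.2 _ (h ▸ hv) hzv)
  refine ⟨w, hwP, ?_⟩
  have h12 : Nat.card (Nm w ⊓ Cn F.z : Subgroup G) = 12 :=
    card_Cn_refl hG F.fpf.1 hzw hv hv1 hzv
  have h4 := card_orbit_mul (Cn F.z) w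
  rw [inf_comm, h12, (inv_data hG).1 F.z F.fpf.1] at h4
  have hsub : MulAction.orbit F.W w ⊆ MulAction.orbit (Cn F.z) w := by
    rintro _ ⟨a, rfl⟩
    exact ⟨⟨a.1, a.2.2⟩, rfl⟩
  have hle : Nat.card (MulAction.orbit F.W w) ≤ 4 := by
    have h := Nat.card_mono (Set.toFinite _) hsub
    omega
  have hWw := card_orbit_mul F.W w
  rw [(isW_inf hG F.fpf).card] at hWw
  have hdvd : Nat.card (F.W ⊓ Nm w : Subgroup G) ∣ 4 := by
    have d1 := Subgroup.card_dvd_of_le (inf_le_left : F.W ⊓ Nm w ≤ F.W)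
    have d2 := Subgroup.card_dvd_of_le
      (show F.W ⊓ Nm w ≤ Nm w ⊓ Cn F.z from fun a ha => ⟨ha.2, ha.1.2⟩)
    rw [(isW_inf hG F.fpf).card] at d1
    rw [h12] at d2
    simpa using Nat.dvd_gcd d1 d2
  have hfour : Nat.card (F.W ⊓ Nm w : Subgroup G) = 4 := by
    have := Nat.le_of_dvd (by norm_num) hdvd
    nlinarith
  have h := card_orbit_mul (Nm F.P) w
  rw [F.stab_eq hG hwP hzw, hfour, (card_Nm hG F.P).2] at h
  omega

end Cfg

end Cfsg.Agent.Fg24.M11
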