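import Mathlib

/-!
# Two numerical impossibilities for a strongly regular matrix, by reduction modulo a prime
-/

set_option autoImplicit false

namespace Cfsg.Agent.Fg24.M11

/-- A regular symmetric relation on 55 points of valency 18 with constant numbers of common
neighbours: if `2A + cI - κJ` squares to zero modulo `q`, its trace vanishes modulo `q`. -/
theorem trace_obstruction {Ω : Type*} [Fintype Ω] [DecidableEq Ω] {q : ℕ} [Fact q.Prime]
    (hΩ : Fintype.card Ω = 55) (A : Ω → Ω → ℕ) (lam mu : ℕ)
    (hrow : ∀ a, ∑ b, A a b = 18) (hcol : ∀ b, ∑ a, A a b = 18) (hdiag : ∀ a, A a a = 0)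
    (h01 : ∀ a b, A a b = 0 ∨ A a b = 1)
    (hsq : ∀ a b, ∑ c, A a c * A c b = if a = b then 18 else if A a b = 1 then lam else mu)
    (c κ : ZMod q) (hc : c = (mu : ZMod q) - (lam : ZMod q))
    (h1 : 4 * (18 - (mu : ZMod q)) + c ^ 2 = 0)
    (h2 : 4 * (mu : ZMod q) - 4 * κ * 18 - 2 * c * κ + κ ^ 2 * 55 = 0) :
    (55 : ZMod q) * (c - κ) = 0 := by
  classical
  let B : Matrix Ω Ω (ZMod q) := fun a b => 2 * (A a b : ZMod q) + (if a = b then c else 0) - κ
  have hBsq : B * B = 0 := by
    ext a b
    rw [Matrix.mul_apply, Matrix.zero_apply]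
    have hr : ∑ x, (A a x : ZMod q) = 18 := by exact_mod_cast congrArg (Nat.cast (R := ZMod q)) (hrow a)
    have hcl : ∑ x, (A x b : ZMod q) = 18 := by exact_mod_cast congrArg (Nat.cast (R := ZMod q)) (hcol b)
    have hs : ∑ x, (A a x : ZMod q) * (A x b : ZMod q) =
        if a = b then (18 : ZMod q) else if A a b = 1 then (lam : ZMod q) else (mu : ZMod q) := by
      have h := congrArg (Nat.cast (R := ZMod q)) (hsq a b)
      push_cast at h
      exact h
    have hexp : ∀ x, B a x * B x b =
        4 * ((A a x : ZMod q) * (A x b : ZMod q)) + 2 * (if x = b then c else 0) * (A a x : ZMod q)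
          + 2 * (if a = x then c else 0) * (A x b : ZMod q)
          - 2 * κ * (A a x : ZMod q) - 2 * κ * (A x b : ZMod q)
          + (if a = x then c else 0) * (if x = b then c else 0)
          - κ * (if a = x then c else 0) - κ * (if x = b then c else 0) + κ ^ 2 := fun x => by
      simp only [B]; ring
    simp only [hexp, Finset.sum_add_distrib, Finset.sum_sub_distrib, ← Finset.mul_sum, hr, hcl, hs,
      Finset.sum_ite_eq, Finset.sum_ite_eq', Finset.mem_univ, if_true, mul_ite, ite_mul, zero_mul,
      mul_zero, Finset.sum_const, Finset.card_univ, hΩ, nsmul_eq_mul]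
    push_cast
    rcases h01 a b with h | h
    · rw [h]
      by_cases hab : a = b
      · subst hab
        simp only [if_true, Nat.cast_zero, mul_zero, add_zero]
        linear_combination h1 + h2
      · simp only [if_neg hab, if_neg (show ¬ (0 : ℕ) = 1 by norm_num), Nat.cast_zero]
        linear_combination h2
    · rw [h]
      have hab : a ≠ b := fun e => by rw [e, hdiag] at h; exact zero_ne_one h
      simp only [if_neg hab, if_true, Nat.cast_one]
      subst hc
      linear_combination h2
  have hnil : IsNilpotent B := ⟨2, by rw [pow_two, hBsq]⟩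
  have htr := (Matrix.isNilpotent_trace_of_isNilpotent hnil).eq_zero
  rw [Matrix.trace] at htr
  simp only [Matrix.diag, B, if_true, hdiag, Nat.cast_zero, mul_zero, zero_add, Finset.sum_const,
    Finset.card_univ, hΩ, nsmul_eq_mul] at htr
  exact_mod_cast htr

end Cfsg.Agent.Fg24.M11
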