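import Cfsg.Agent.Fg24.M11.Config
import Cfsg.Agent.Fg24.M11.Matrix

/-!
# A simple group of order 7920 acts faithfully on eleven points

The orbital graph of valency 18 on the 55 Sylow 3-subgroups is the triangular graph of eleven
letters: the letters are its cliques of size ten.
-/

set_option autoImplicit false
set_option linter.unusedSectionVars false

open Cfsg
open scoped Pointwise

namespace Cfsg.Agent.Fg24.M11

universe u

variable {G : Type u} [Group G] [Fintype G]

theorem smul_smul_conj {α : Type*} [MulAction G α] {k p : G} {Q Q' : α} (h : k • Q = Q') :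
    k • p • Q = (k * p * k⁻¹) • Q' := by
  rw [← h, smul_smul, smul_smul, inv_mul_cancel_right]

local instance fact_prime_nineteen : Fact (Nat.Prime 19) := ⟨by norm_num⟩

local instance fact_prime_eightynine : Fact (Nat.Prime 89) := ⟨by norm_num⟩

namespace Cfg

variable (F : Cfg G)

/-- The orbital of valency 18. -/
def Adj (Q R : Sylow 3 G) : Prop := ∃ g : G, g • F.P = Q ∧ g • F.x = R

/-- The number of common neighbours. -/
noncomputable def common (Q R : Sylow 3 G) : ℕ :=
  Nat.card {T : Sylow 3 G // F.Adj Q T ∧ F.Adj T R}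

/-- The two neighbours fixed by the involution. -/
def side (b : Bool) : Sylow 3 G := cond b F.y F.x

theorem adj_smul {Q R : Sylow 3 G} (h : F.Adj Q R) (g : G) : F.Adj (g • Q) (g • R) := by
  obtain ⟨a, h1, h2⟩ := h
  exact ⟨g * a, by rw [mul_smul, h1], by rw [mul_smul, h2]⟩

theorem adj_smul_iff {Q R : Sylow 3 G} (g : G) : F.Adj (g • Q) (g • R) ↔ F.Adj Q R := by
  refine ⟨fun h => ?_, fun h => F.adj_smul h g⟩
  simpa using F.adj_smul h g⁻¹

theorem adj_shift {Q R : Sylow 3 G} (p q : G) :
    F.Adj (p • Q) (q • R) ↔ F.Adj Q ((p⁻¹ * q) • R) := by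
  rw [← F.adj_smul_iff p⁻¹, inv_smul_smul, smul_smul]

theorem common_smul (g : G) (Q R : Sylow 3 G) : F.common (g • Q) (g • R) = F.common Q R :=
  Nat.card_congr (Equiv.subtypeEquiv (MulAction.toPerm g) fun T => by
    rw [MulAction.toPerm_apply, F.adj_smul_iff, F.adj_smul_iff]).symm

theorem adj_P_iff {R : Sylow 3 G} : F.Adj F.P R ↔ R ∈ MulAction.orbit (Nm F.P) F.x := by
  constructor
  · rintro ⟨g, h1, h2⟩
    exact ⟨⟨g, mem_Nm_iff.2 h1⟩, h2⟩
  · rintro ⟨⟨g, hg⟩, rfl⟩
    exact ⟨g, mem_Nm_iff.1 hg, rfl⟩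

theorem adj_x_y : F.Adj F.x F.y := ⟨F.c, rfl, F.c_smul_x⟩

variable [IsSimpleGroup G] (hG : Nat.card G = 7920)
include hG

theorem adj_symm {Q R : Sylow 3 G} (h : F.Adj Q R) : F.Adj R Q := by
  obtain ⟨g, rfl, rfl⟩ := h
  refine F.adj_smul ?_ g
  obtain ⟨w, hw, h1, -⟩ := F.exists_swap hG
  exact ⟨F.c * w, by rw [mul_smul, mem_Nm_iff.1 hw.1], by rw [mul_smul, h1, y, smul_inv_smul]⟩

theorem adj_ne {Q R : Sylow 3 G} (h : F.Adj Q R) : Q ≠ R := by
  obtain ⟨g, rfl, rfl⟩ := h
  exact fun he => F.x_ne_P hG (smul_left_cancel g he).symm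

theorem adj_P_side {p : G} (hp : p ∈ (F.P : Subgroup G)) (b : Bool) :
    F.Adj F.P (p • F.side b) := by
  have hpP : p • F.P = F.P := mem_Nm_iff.1 (Subgroup.le_normalizer hp)
  cases b
  · exact ⟨p, hpP, rfl⟩
  · obtain ⟨w, hw, h1, -⟩ := F.exists_swap hG
    exact ⟨p * w, by rw [mul_smul, mem_Nm_iff.1 hw.1, hpP], by rw [mul_smul, h1]; rfl⟩

theorem exists_side {R : Sylow 3 G} (h : F.Adj F.P R) :
    ∃ p ∈ (F.P : Subgroup G), ∃ b, p • F.side b = R := by
  obtain ⟨g, hg, rfl⟩ := h
  obtain ⟨p, hp, w, hw, rfl⟩ := exists_mul hG (isW_inf hG F.fpf) (mem_Nm_iff.2 hg)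
  rcases F.W_smul_x hG hw with h | h
  · exact ⟨p, hp, false, by rw [mul_smul, h]; rfl⟩
  · exact ⟨p, hp, true, by rw [mul_smul, h]; rfl⟩

theorem card_adj (Q : Sylow 3 G) : Nat.card {T : Sylow 3 G // F.Adj Q T} = 18 := by
  obtain ⟨g, rfl⟩ := MulAction.exists_smul_eq G F.P Q
  rw [← F.card_orbit_x hG]
  exact Nat.card_congr (Equiv.subtypeEquiv (MulAction.toPerm g⁻¹) fun T => by
    rw [MulAction.toPerm_apply]
    exact ((F.adj_smul_iff g⁻¹).symm.trans (by rw [inv_smul_smul])).trans F.adj_P_iff)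

/-- The 18 neighbours, parametrised by `P × Bool`. -/
def nbr (a : ↥(F.P : Subgroup G) × Bool) : {T : Sylow 3 G // F.Adj F.P T} :=
  ⟨(a.1 : G) • F.side a.2, F.adj_P_side hG a.1.2 a.2⟩

theorem nbr_bijective : Function.Bijective (F.nbr hG) := by
  refine (Nat.bijective_iff_surjective_and_card _).2 ⟨fun T => ?_, ?_⟩
  · obtain ⟨p, hp, b, h⟩ := F.exists_side hG T.2
    exact ⟨(⟨p, hp⟩, b), Subtype.ext h⟩
  · rw [Nat.card_prod, card_sylow_three hG F.P, F.card_adj hG F.P,
      Nat.card_eq_fintype_card (α := Bool), Fintype.card_bool]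

theorem side_inj {p q : G} (hp : p ∈ (F.P : Subgroup G)) (hq : q ∈ (F.P : Subgroup G))
    {b b' : Bool} (h : p • F.side b = q • F.side b') : p = q ∧ b = b' := by
  have := (F.nbr_bijective hG).1 (a₁ := (⟨p, hp⟩, b)) (a₂ := (⟨q, hq⟩, b')) (Subtype.ext h)
  simpa using this

theorem adj_x_side_all {b : Bool} {p q : G} (hp : p ∈ (F.P : Subgroup G)) (hp1 : p ≠ 1)
    (hq : q ∈ (F.P : Subgroup G)) (hq1 : q ≠ 1) (h : F.Adj F.x (p • F.side b)) :
    F.Adj F.x (q • F.side b) := by
  obtain ⟨k, hk, rfl⟩ := F.K_transitive hG hp hp1 hq hq1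
  have hb : k • F.side b = F.side b := by
    cases b
    · exact F.K_fix_x hG hk
    · exact F.K_fix_y hG hk
  have h2 := F.adj_smul h k
  rwa [F.K_fix_x hG hk, smul_smul_conj hb] at h2

omit F in
theorem exists_data : ∃ F : Cfg G, ∃ v : Sylow 3 G, v ≠ F.P ∧
    Nat.card (MulAction.orbit (Nm F.P) v) = 36 := by
  obtain ⟨F⟩ := exists_cfg hG
  exact ⟨F, F.exists_far hG⟩

/-- `α ∧ ¬ β`: two neighbours of `P` are adjacent when of the same side, or in one triangle. -/
theorem adj_rule : (∀ p ∈ (F.P : Subgroup G), p ≠ 1 → F.Adj F.x (p • F.x)) ∧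
    ∀ p ∈ (F.P : Subgroup G), F.Adj F.x (p • F.y) → p = 1 := by
  classical
  letI : Fintype (Sylow 3 G) := Fintype.ofFinite _
  letI : Fintype (F.P : Subgroup G) := Fintype.ofFinite _
  obtain ⟨v, hvP, hv⟩ := F.exists_far hG
  -- the three classes
  let f : Option (MulAction.orbit (Nm F.P) F.x ⊕ MulAction.orbit (Nm F.P) v) → Sylow 3 G :=
    fun o => o.elim F.P (Sum.elim Subtype.val Subtype.val)
  have hPx : ∀ a : MulAction.orbit (Nm F.P) F.x, (a : Sylow 3 G) ≠ F.P := fun a h =>
    F.adj_ne hG (F.adj_P_iff.2 a.2) h.symm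
  have hPv : ∀ a : MulAction.orbit (Nm F.P) v, (a : Sylow 3 G) ≠ F.P := by
    rintro ⟨_, n, rfl⟩ h
    exact hvP (smul_left_cancel (n : G) (h.trans (mem_Nm_iff.1 n.2).symm))
  have hxv : ∀ (a : MulAction.orbit (Nm F.P) F.x) (b : MulAction.orbit (Nm F.P) v),
      (a : Sylow 3 G) ≠ b := fun a b h => by
    have h1 := MulAction.orbit_eq_iff.2 a.2
    have h2 := MulAction.orbit_eq_iff.2 b.2
    rw [h] at h1
    have := F.card_orbit_x hG
    rw [← h1, h2, hv] at this
    omega
  have hf : Function.Bijective f := by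
    refine (Nat.bijective_iff_injective_and_card f).2 ⟨?_, ?_⟩
    · rintro (_ | a | a) (_ | b | b) h <;> simp only [f, Option.elim, Sum.elim_inl, Sum.elim_inr] at h
      · rfl
      · exact absurd h.symm (hPx b)
      · exact absurd h.symm (hPv b)
      · exact absurd h (hPx a)
      · rw [Subtype.ext h]
      · exact absurd h (hxv a b)
      · exact absurd h (hPv a)
      · exact absurd h.symm (hxv b a)
      · rw [Subtype.ext h]
    · rw [(card_Nm hG F.P).1, Finite.card_option, Nat.card_sum, F.card_orbit_x hG, hv]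
  -- parameters
  set lam := F.common F.P F.x with hlam_def
  set mu := F.common F.P v with hmu_def
  have hadj : ∀ {a b}, F.Adj a b → F.common a b = lam := by
    rintro a b ⟨g, rfl, rfl⟩
    exact F.common_smul g _ _
  have hnadj : ∀ {a b}, a ≠ b → ¬ F.Adj a b → F.common a b = mu := by
    intro a b hab hn
    obtain ⟨g, rfl⟩ := MulAction.exists_smul_eq G F.P a
    obtain ⟨o, ho⟩ := hf.2 (g⁻¹ • b)
    have hb : b = g • f o := by rw [ho, smul_inv_smul]
    rcases o with _ | o | ⟨_, n, rfl⟩
    · exact absurd hb.symm hab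
    · exact absurd (hb ▸ F.adj_smul (F.adj_P_iff.2 o.2) g) hn
    · have hn' : g • F.P = (g * n.1) • F.P := by rw [mul_smul, mem_Nm_iff.1 n.2]
      rw [hn', hb, show g • f (some (Sum.inr ⟨n • v, n, rfl⟩)) = (g * n.1) • v from
        (mul_smul g n.1 v).symm]
      exact F.common_smul _ _ _
  have hself : ∀ a, F.common a a = 18 := fun a => by
    rw [← F.card_adj hG a]
    exact Nat.card_congr (Equiv.subtypeEquivRight fun T => ⟨fun h => h.1, fun h => ⟨h, F.adj_symm hG h⟩⟩)
  let A : Sylow 3 G → Sylow 3 G → ℕ := fun a b => if F.Adj a b then 1 else 0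
  have hrow : ∀ a, ∑ b, A a b = 18 := fun a => by
    rw [← F.card_adj hG a, Nat.card_eq_fintype_card, Fintype.card_subtype]
    simp [A]
  have hcol : ∀ b, ∑ a, A a b = 18 := fun b => by
    rw [← hrow b]
    refine Finset.sum_congr rfl fun a _ => ?_
    simp only [A]
    exact if_congr ⟨F.adj_symm hG, F.adj_symm hG⟩ rfl rfl
  have hprod : ∀ a b, ∑ c, A a c * A c b = F.common a b := fun a b => by
    rw [common, Nat.card_eq_fintype_card, Fintype.card_subtype, Finset.card_filter]
    refine Finset.sum_congr rfl fun c _ => ?_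
    simp only [A]
    split_ifs <;> simp_all
  have hsq : ∀ a b, ∑ c, A a c * A c b = if a = b then 18 else if A a b = 1 then lam else mu := by
    intro a b
    rw [hprod]
    by_cases hab : a = b
    · rw [if_pos hab, hab, hself]
    rw [if_neg hab]
    by_cases h : F.Adj a b
    · rw [if_pos (show A a b = 1 from if_pos h), hadj h]
    · rw [if_neg (show A a b ≠ 1 by simp [A, h]), hnadj hab h]
  have hcount : 18 + 18 * lam + 36 * mu = 324 := by
    have h1 : ∑ b, F.common F.P b = 324 := by
      simp only [← hprod]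
      rw [Finset.sum_comm]
      simp only [← Finset.mul_sum, hrow, ← Finset.sum_mul]
      norm_num
    rw [← Equiv.sum_comp (Equiv.ofBijective f hf), Fintype.sum_option, Fintype.sum_sum_type] at h1
    have e1 : ∀ o : MulAction.orbit (Nm F.P) F.x, F.common F.P o = lam := fun o =>
      hadj (F.adj_P_iff.2 o.2)
    have e2 : ∀ o : MulAction.orbit (Nm F.P) v, F.common F.P o = mu := by
      rintro ⟨_, n, rfl⟩
      have := F.common_smul n.1 F.P v
      rwa [mem_Nm_iff.1 n.2] at this
    simp only [Equiv.ofBijective_apply, f, Option.elim, Sum.elim_inl, Sum.elim_inr, hself, e1, e2,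
      Finset.sum_const, Finset.card_univ, ← Nat.card_eq_fintype_card, F.card_orbit_x hG, hv,
      smul_eq_mul] at h1
    omega
  -- the value of `lam`
  by_contra hgoal
  let e : ↥(F.P : Subgroup G) × Bool ≃ {T : Sylow 3 G // F.Adj F.P T} :=
    Equiv.ofBijective _ (F.nbr_bijective hG)
  have hlam : lam = ∑ p : (F.P : Subgroup G),
      ((if F.Adj ((p : G) • F.y) F.x then 1 else 0) +
        (if F.Adj ((p : G) • F.x) F.x then 1 else 0)) := by
    rw [hlam_def, common, ← Nat.card_congr (Equiv.subtypeSubtypeEquivSubtypeInter _ _),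
      ← Nat.card_congr (Equiv.subtypeEquiv (q := fun T : {T : Sylow 3 G // F.Adj F.P T} => F.Adj T.1 F.x)
        (p := fun a => F.Adj (e a).1 F.x) e fun a => Iff.rfl),
      Nat.card_eq_fintype_card, Fintype.card_subtype, Finset.card_filter, Fintype.sum_prod_type]
    refine Finset.sum_congr rfl fun p _ => ?_
    rw [Fintype.sum_bool]
    rfl
  have hxx : ∀ p : (F.P : Subgroup G), F.Adj ((p : G) • F.x) F.x ↔ F.Adj F.x ((p : G) • F.x) :=
    fun p => ⟨F.adj_symm hG, F.adj_symm hG⟩
  have hyx : ∀ p : (F.P : Subgroup G), F.Adj ((p : G) • F.y) F.x ↔ F.Adj F.x ((p : G) • F.y) :=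
    fun p => ⟨F.adj_symm hG, F.adj_symm hG⟩
  simp only [hxx, hyx] at hlam
  have hxx1 : ¬ F.Adj F.x ((1 : G) • F.x) := by
    rw [one_smul]; exact fun h => F.adj_ne hG h rfl
  have hxy1 : F.Adj F.x ((1 : G) • F.y) := by rw [one_smul]; exact F.adj_x_y
  have hcard9 : Fintype.card (F.P : Subgroup G) = 9 := by
    rw [← Nat.card_eq_fintype_card, card_sylow_three hG F.P]
  have hmodel : ∀ (q : ℕ) [Fact q.Prime] (c κ : ZMod q), c = (mu : ZMod q) - (lam : ZMod q) →
      4 * (18 - (mu : ZMod q)) + c ^ 2 = 0 →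
      4 * (mu : ZMod q) - 4 * κ * 18 - 2 * c * κ + κ ^ 2 * 55 = 0 → (55 : ZMod q) * (c - κ) = 0 :=
    fun q _ c κ hc h1 h2 => trace_obstruction
      (by rw [← Nat.card_eq_fintype_card, (card_Nm hG F.P).1]) A lam mu hrow hcol
      (fun a => if_neg fun h => F.adj_ne hG h rfl)
      (fun a b => by simp only [A]; split_ifs <;> simp) hsq c κ hc h1 h2
  by_cases hα : ∃ p ∈ (F.P : Subgroup G), p ≠ 1 ∧ F.Adj F.x (p • F.x) <;>
    by_cases hβ : ∃ p ∈ (F.P : Subgroup G), p ≠ 1 ∧ F.Adj F.x (p • F.y)
  · -- everything adjacent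
    obtain ⟨p, hp, hp1, hpa⟩ := hα
    obtain ⟨r, hr, hr1, hra⟩ := hβ
    have h1 : lam = 17 := by
      rw [hlam, Finset.sum_congr rfl (g := fun q : (F.P : Subgroup G) => 1 + if q ≠ 1 then 1 else 0)
        fun q _ => ?_, Finset.sum_add_distrib, Finset.sum_boole, Finset.filter_ne',
        Finset.card_erase_of_mem (Finset.mem_univ _), Finset.sum_const, Finset.card_univ, hcard9]
      · rfl
      by_cases hq : q = 1
      · subst hq
        rw [OneMemClass.coe_one, if_pos hxy1, if_neg hxx1, if_neg (not_not.2 rfl)]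
      · have hq1 : (q : G) ≠ 1 := fun h => hq (Subtype.ext h)
        have ex : F.Adj F.x ((q : G) • F.x) := F.adj_x_side_all hG (b := false) hp hp1 q.2 hq1 hpa
        have ey : F.Adj F.x ((q : G) • F.y) := F.adj_x_side_all hG (b := true) hr hr1 q.2 hq1 hra
        rw [if_pos hq, if_pos ex, if_pos ey]
    have h2 : mu = 0 := by omega
    have := hmodel 19 (-17) 0 (by rw [h1, h2]; decide) (by rw [h2]; decide) (by rw [h2]; decide)
    exact absurd this (by decide)
  · obtain ⟨p, hp, hp1, hpa⟩ := hα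
    exact hgoal ⟨fun q hq hq1 => F.adj_x_side_all hG (b := false) hp hp1 hq hq1 hpa,
      fun q hq h => by_contra fun hq1 => hβ ⟨q, hq, hq1, h⟩⟩
  · -- `x` and `p • x` have ten common neighbours
    obtain ⟨r, hr, hr1, hra⟩ := hβ
    have hall : ∀ q ∈ (F.P : Subgroup G), F.Adj F.x (q • F.y) := fun q hq => by
      by_cases hq1 : q = 1
      · rw [hq1]; exact hxy1
      · exact F.adj_x_side_all hG (b := true) hr hr1 hq hq1 hra
    have h1 : lam = 9 := by
      rw [hlam, Finset.sum_congr rfl (g := fun _ => 1) fun q _ => ?_, Finset.sum_const,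
        Finset.card_univ, hcard9]
      · rfl
      rw [if_pos (hall q q.2), if_neg fun h => ?_]
      by_cases hq1 : (q : G) = 1
      · rw [hq1] at h; exact hxx1 h
      · exact hα ⟨q, q.2, hq1, h⟩
    have hrx : F.x ≠ r • F.x := fun h => hr1 (F.side_inj hG hr (one_mem _) (b := false) (b' := false)
      (by rw [one_smul]; exact h.symm)).1
    have h4 := hnadj hrx fun h => hα ⟨r, hr, hr1, h⟩
    let f' : Option (F.P : Subgroup G) → {T : Sylow 3 G // F.Adj F.x T ∧ F.Adj T (r • F.x)} :=
      fun o => o.elim ⟨F.P, F.adj_symm hG ⟨1, one_smul _ _, one_smul _ _⟩,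
          F.adj_P_side hG hr false⟩
        fun q => ⟨(q : G) • F.y, hall q q.2, F.adj_symm hG ((F.adj_shift r q).2
          (hall _ (mul_mem (inv_mem hr) q.2)))⟩
    have hf' : Function.Injective f' := by
      rintro (_ | a) (_ | b) h <;> have h' := congrArg Subtype.val h <;>
        simp only [f', Option.elim] at h'
      · rfl
      · exact absurd h' (F.adj_ne hG (F.adj_P_side hG b.2 true))
      · exact absurd h'.symm (F.adj_ne hG (F.adj_P_side hG a.2 true))
      · rw [Subtype.ext (F.side_inj hG a.2 b.2 (b := true) (b' := true) h').1]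
    have h10 := Nat.card_le_card_of_injective f' hf'
    rw [Finite.card_option, card_sylow_three hG F.P] at h10
    change 9 + 1 ≤ F.common F.x (r • F.x) at h10
    omega
  · have h1 : lam = 1 := by
      rw [hlam, Finset.sum_congr rfl (g := fun q : (F.P : Subgroup G) => if q = 1 then 1 else 0)
        fun q _ => ?_, Finset.sum_ite_eq' , if_pos (Finset.mem_univ _)]
      by_cases hq : q = 1
      · subst hq
        rw [OneMemClass.coe_one, if_pos hxy1, if_neg hxx1, if_pos rfl]
      · have hq1 : (q : G) ≠ 1 := fun h => hq (Subtype.ext h)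
        rw [if_neg hq, if_neg fun h => hβ ⟨q, q.2, hq1, h⟩, if_neg fun h => hα ⟨q, q.2, hq1, h⟩]
    have h2 : mu = 8 := by omega
    have := hmodel 89 7 38 (by rw [h1, h2]; decide) (by rw [h2]; decide) (by rw [h2]; decide)
    exact absurd this (by decide)

theorem adj_side_side {p q : G} (hp : p ∈ (F.P : Subgroup G)) (hq : q ∈ (F.P : Subgroup G))
    (hpq : p ≠ q) (b : Bool) : F.Adj (p • F.side b) (q • F.side b) := by
  have hd : p⁻¹ * q ∈ (F.P : Subgroup G) := mul_mem (inv_mem hp) hq
  have hd1 : p⁻¹ * q ≠ 1 := fun h => hpq (inv_mul_eq_one.1 h)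
  rw [F.adj_shift]
  cases b
  · exact (F.adj_rule hG).1 _ hd hd1
  · obtain ⟨w, hw, -, h2⟩ := F.exists_swap hG
    refine (F.adj_smul_iff w).1 ?_
    rw [show F.side true = F.y from rfl, smul_smul_conj h2, h2]
    exact (F.adj_rule hG).1 _ (conj_mem_of_Nm hw.1 hd) fun h => hd1 (conj_eq_one_iff.1 h)

theorem eq_of_adj_x_y {p q : G} (hp : p ∈ (F.P : Subgroup G)) (hq : q ∈ (F.P : Subgroup G))
    (h : F.Adj (p • F.x) (q • F.y)) : p = q :=
  inv_mul_eq_one.1 ((F.adj_rule hG).2 _ (mul_mem (inv_mem hp) hq) ((F.adj_shift p q).1 h))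

end Cfg

/-- A clique of ten points. -/
abbrev Clique (F : Cfg G) :=
  {C : Finset (Sylow 3 G) // C.card = 10 ∧ ∀ a ∈ C, ∀ b ∈ C, a ≠ b → F.Adj a b}

/-- The image of a clique. -/
def Clique.map {F : Cfg G} (g : G) (C : Clique F) : Clique F :=
  ⟨C.1.map (MulAction.toPerm g).toEmbedding, by rw [Finset.card_map, C.2.1], fun a ha b hb hab => by
    obtain ⟨a', ha', rfl⟩ := Finset.mem_map.1 ha
    obtain ⟨b', hb', rfl⟩ := Finset.mem_map.1 hb
    exact F.adj_smul (C.2.2 a' ha' b' hb' fun h => hab (by rw [h])) g⟩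

theorem Clique.mem_map {F : Cfg G} {g : G} {C : Clique F} {T : Sylow 3 G} :
    T ∈ (Clique.map g C).1 ↔ g⁻¹ • T ∈ C.1 := Finset.mem_map_equiv

/-- The action on cliques. -/
def cliqueHom (F : Cfg G) : G →* Equiv.Perm (Clique F) :=
  MonoidHom.mk' (fun g =>
    { toFun := Clique.map g
      invFun := Clique.map g⁻¹
      left_inv := fun C => Subtype.ext (Finset.ext fun T => by simp [Clique.mem_map])
      right_inv := fun C => Subtype.ext (Finset.ext fun T => by simp [Clique.mem_map]) })
    fun g h => Equiv.ext fun C => Subtype.ext (Finset.ext fun T => by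
      show T ∈ (Clique.map (g * h) C).1 ↔ T ∈ (Clique.map g (Clique.map h C)).1
      simp [Clique.mem_map, mul_smul])

variable [IsSimpleGroup G] (hG : Nat.card G = 7920)
include hG

/-- A simple group of order 7920 embeds in the symmetric group of degree eleven. -/
theorem exists_perm11 : ∃ φ : G →* Equiv.Perm (Fin 11), Function.Injective φ := by
  classical
  obtain ⟨F⟩ := Cfg.exists_cfg hG
  letI : Fintype (Sylow 3 G) := Fintype.ofFinite _
  letI : Fintype (F.P : Subgroup G) := Fintype.ofFinite _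
  letI : Fintype (Clique F) := Fintype.ofFinite _
  have hinj : ∀ b, Function.Injective fun p : (F.P : Subgroup G) => (p : G) • F.side b :=
    fun b p q h => Subtype.ext (F.side_inj hG p.2 q.2 h).1
  let L : Bool → Finset (Sylow 3 G) := fun b =>
    insert F.P (Finset.univ.image fun p : (F.P : Subgroup G) => (p : G) • F.side b)
  have hmem : ∀ b T, T ∈ L b ↔ T = F.P ∨ ∃ p : (F.P : Subgroup G), (p : G) • F.side b = T :=
    fun b T => by simp [L]
  have hL : ∀ b, (L b).card = 10 ∧ ∀ a ∈ L b, ∀ c ∈ L b, a ≠ c → F.Adj a c := by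
    intro b
    refine ⟨?_, fun a ha c hc hac => ?_⟩
    · rw [Finset.card_insert_of_notMem fun h => ?_, Finset.card_image_of_injective _ (hinj b),
        Finset.card_univ, ← Nat.card_eq_fintype_card, card_sylow_three hG F.P]
      obtain ⟨p, -, hp⟩ := Finset.mem_image.1 h
      exact F.adj_ne hG (F.adj_P_side hG p.2 b) hp.symm
    · rcases (hmem b a).1 ha with rfl | ⟨p, rfl⟩ <;> rcases (hmem b c).1 hc with rfl | ⟨q, rfl⟩
      · exact absurd rfl hac
      · exact F.adj_P_side hG q.2 b
      · exact F.adj_symm hG (F.adj_P_side hG p.2 b)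
      · exact F.adj_side_side hG p.2 q.2 (fun h => hac (by rw [h])) b
  let CL : Bool → Clique F := fun b => ⟨L b, hL b⟩
  have hthrough : ∀ C : Clique F, F.P ∈ C.1 → C = CL false ∨ C = CL true := by
    intro C hC
    have hnb : ∀ T ∈ C.1, T ≠ F.P → ∃ p : (F.P : Subgroup G), ∃ b, (p : G) • F.side b = T :=
      fun T hT hne => by
        obtain ⟨p, hp, b, h⟩ := F.exists_side hG (C.2.2 _ hC T hT (Ne.symm hne))
        exact ⟨⟨p, hp⟩, b, h⟩
    have hone : ∀ b, (∀ T ∈ C.1, T ≠ F.P → ∃ p : (F.P : Subgroup G), (p : G) • F.side b = T) →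
        C = CL b := fun b hb => by
      refine Subtype.ext (Finset.eq_of_subset_of_card_le (fun T hT => (hmem b T).2 ?_)
        (by rw [C.2.1]; exact (hL b).1.le))
      by_cases h : T = F.P
      · exact Or.inl h
      · exact Or.inr (hb T hT h)
    by_cases hy : ∃ q : (F.P : Subgroup G), (q : G) • F.side true ∈ C.1
    · obtain ⟨q, hq⟩ := hy
      by_cases hx : ∃ p : (F.P : Subgroup G), (p : G) • F.side false ∈ C.1
      · exfalso
        obtain ⟨p, hp⟩ := hx
        have hpq : ∀ p q : (F.P : Subgroup G), (p : G) • F.side false ∈ C.1 →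
            (q : G) • F.side true ∈ C.1 → p = q := fun p q hp hq =>
          Subtype.ext (F.eq_of_adj_x_y hG p.2 q.2 (C.2.2 _ hp _ hq fun h =>
            absurd (F.side_inj hG p.2 q.2 h).2 Bool.false_ne_true))
        have hsub : C.1 ⊆ {F.P, (p : G) • F.side false, (q : G) • F.side true} := by
          intro T hT
          simp only [Finset.mem_insert, Finset.mem_singleton]
          by_cases hne : T = F.P
          · exact Or.inl hne
          obtain ⟨r, b, rfl⟩ := hnb T hT hne
          cases b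
          · exact Or.inr (Or.inl (by rw [hpq r q hT hq, ← hpq p q hp hq]))
          · exact Or.inr (Or.inr (by rw [← hpq p r hp hT, hpq p q hp hq]))
        have := (Finset.card_le_card hsub).trans Finset.card_le_three
        rw [C.2.1] at this
        omega
      · refine Or.inr (hone true fun T hT hne => ?_)
        obtain ⟨r, b, rfl⟩ := hnb T hT hne
        cases b
        · exact absurd ⟨r, hT⟩ hx
        · exact ⟨r, rfl⟩
    · refine Or.inl (hone false fun T hT hne => ?_)
      obtain ⟨r, b, rfl⟩ := hnb T hT hne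
      cases b
      · exact ⟨r, rfl⟩
      · exact absurd ⟨r, hT⟩ hy
  have hne : CL false ≠ CL true := fun h => by
    have h1 : (1 : G) • F.side false ∈ L true := by
      have : (1 : G) • F.side false ∈ L false := (hmem _ _).2 (Or.inr ⟨1, rfl⟩)
      rwa [show L false = L true from congrArg Subtype.val h] at this
    rcases (hmem _ _).1 h1 with h1 | ⟨p, hp⟩
    · exact F.adj_ne hG (F.adj_P_side hG (one_mem _) false) h1.symm
    · exact Bool.false_ne_true (F.side_inj hG p.2 (one_mem _) hp).2.symm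
  have htwo : ∀ T, Nat.card {C : Clique F // T ∈ C.1} = 2 := by
    intro T
    obtain ⟨g, rfl⟩ := MulAction.exists_smul_eq G F.P T
    rw [← Nat.card_congr (Equiv.subtypeEquiv (p := fun C : Clique F => F.P ∈ C.1) (cliqueHom F g)
      fun C => (show F.P ∈ C.1 ↔ g • F.P ∈ (Clique.map g C).1 by rw [Clique.mem_map, inv_smul_smul]))]
    let f : Bool → {C : Clique F // F.P ∈ C.1} := fun b => ⟨CL b, (hmem b _).2 (Or.inl rfl)⟩
    have hf : Function.Bijective f := by
      refine ⟨fun a b h => ?_, fun C => ?_⟩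
      · have h' : CL a = CL b := congrArg Subtype.val h
        cases a <;> cases b <;> first | rfl | exact absurd h' hne | exact absurd h'.symm hne
      · rcases hthrough C.1 C.2 with h | h
        · exact ⟨false, Subtype.ext h.symm⟩
        · exact ⟨true, Subtype.ext h.symm⟩
    rw [← Nat.card_congr (Equiv.ofBijective f hf), Nat.card_eq_fintype_card, Fintype.card_bool]
  have h11 : Fintype.card (Clique F) = 11 := by
    have h1 : ∑ C : Clique F, C.1.card = ∑ T : Sylow 3 G, 2 := by
      rw [show ∑ T : Sylow 3 G, 2 = ∑ T : Sylow 3 G, Nat.card {C : Clique F // T ∈ C.1} from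
        Finset.sum_congr rfl fun T _ => (htwo T).symm]
      simp only [Nat.card_eq_fintype_card, Fintype.card_subtype, Finset.card_filter]
      rw [Finset.sum_comm]
      refine Finset.sum_congr rfl fun C _ => ?_
      rw [← Finset.card_filter]
      congr 1
      ext T; simp
    simp only [fun C : Clique F => C.2.1, Finset.sum_const, Finset.card_univ, smul_eq_mul,
      ← Nat.card_eq_fintype_card, (card_Nm hG F.P).1] at h1
    rw [← Nat.card_eq_fintype_card]
    omega
  let e : Clique F ≃ Fin 11 := Fintype.equivFinOfCardEq h11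
  refine ⟨e.permCongrHom.toMonoidHom.comp (cliqueHom F),
    e.permCongrHom.injective.comp ?_⟩
  rw [← MonoidHom.ker_eq_bot_iff]
  refine (Subgroup.Normal.eq_bot_or_eq_top (H := (cliqueHom F).ker) inferInstance).resolve_right
    fun htop => ?_
  have hall : ∀ T, T ∈ L false := fun T => by
    obtain ⟨g, rfl⟩ := MulAction.exists_smul_eq G F.P T
    have h1 : cliqueHom F g = 1 := by
      rw [← MonoidHom.mem_ker, htop]; trivial
    have h2 : Clique.map g (CL false) = CL false := Equiv.ext_iff.1 h1 (CL false)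
    have h3 : g • F.P ∈ (Clique.map g (CL false)).1 :=
      Clique.mem_map.2 (by rw [inv_smul_smul]; exact (hmem _ _).2 (Or.inl rfl))
    rwa [h2] at h3
  have h1 := Finset.card_le_card (fun T _ => hall T : (Finset.univ : Finset (Sylow 3 G)) ⊆ L false)
  rw [(hL false).1, Finset.card_univ, ← Nat.card_eq_fintype_card, (card_Nm hG F.P).1] at h1
  omega

end Cfsg.Agent.Fg24.M11
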