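import Cfsg.Agent.Fg24.M11.Graph
import Cfsg.Agent.S4429

/-!
# The simple groups of order 7920 are isomorphic to each other

In the embedding in the symmetric group on the integers modulo 11 one may assume that the image
contains `i ↦ i + 1` and `i ↦ 3 i`; an element inducing the squaring map on the latter is then one
of ten permutations, two of which are possible, and these two are conjugate by `i ↦ -i`.
-/

set_option autoImplicit false
set_option linter.unusedSectionVars false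

open Cfsg

namespace Cfsg.Agent.Fg24.M11

/-- The translation. -/
def sigma11 : Equiv.Perm (ZMod 11) := Equiv.addRight 1

/-- Multiplication by three. -/
def mu11 : Equiv.Perm (ZMod 11) := ⟨fun i => 3 * i, fun i => 4 * i, by decide, by decide⟩

/-- The negation. -/
def neg11 : Equiv.Perm (ZMod 11) := Equiv.neg (ZMod 11)

local instance fact_prime_two' : Fact (Nat.Prime 2) := ⟨Nat.prime_two⟩

local instance fact_prime_five : Fact (Nat.Prime 5) := ⟨by norm_num⟩

local instance fact_prime_eleven : Fact (Nat.Prime 11) := ⟨by norm_num⟩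

/-- A map given by its eleven values. -/
def vec (v : Fin 11 → ZMod 11) : ZMod 11 → ZMod 11 := v

/-- The table of a map commuting `i ↦ 3 i` to its square, fixing `0`. -/
def tab (a b : ZMod 11) : ZMod 11 → ZMod 11 :=
  vec ![0, a, b, 9 * a, 5 * a, 3 * a, 9 * b, 4 * b, 5 * b, 4 * a, 3 * b]

/-- The third generator. -/
def tau11 : Equiv.Perm (ZMod 11) :=
  ⟨tab 1 10, vec ![0, 1, 6, 5, 9, 4, 8, 7, 10, 3, 2],
    by unfold Function.LeftInverse; decide +kernel,
    by unfold Function.RightInverse Function.LeftInverse; decide +kernel⟩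

theorem tab_eq {f : ZMod 11 → ZMod 11} (h0 : f 0 = 0) (h : ∀ i, f (3 * i) = 9 * f i) :
    ∀ i, f i = tab (f 1) (f 2) i := by
  have h3 : f 3 = 9 * f 1 := h 1
  have h9 : f 9 = 9 * f 3 := h 3
  have h5 : f 5 = 9 * f 9 := h 9
  have h4 : f 4 = 9 * f 5 := h 5
  have h6 : f 6 = 9 * f 2 := h 2
  have h7 : f 7 = 9 * f 6 := h 6
  have h10 : f 10 = 9 * f 7 := h 7
  have h8 : f 8 = 9 * f 10 := h 10
  rw [h3] at h9
  rw [h9] at h5
  rw [h5] at h4
  rw [h6] at h7
  rw [h7] at h10
  rw [h10] at h8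
  have hall : ∀ a b : ZMod 11, ∀ i : ZMod 11, vec (![0, a, b, 9 * a, 9 * (9 * (9 * (9 * a))), 9 * (9 * (9 * a)),
      9 * b, 9 * (9 * b), 9 * (9 * (9 * (9 * b))), 9 * (9 * a), 9 * (9 * (9 * b))]) i
      = tab a b i := by decide +kernel
  intro i
  rw [← hall]
  fin_cases i
  exacts [h0, rfl, rfl, h3, h4, h5, h6, h7, h8, h9, h10]

theorem sigma11_pow (n : ℕ) (i : ZMod 11) : (sigma11 ^ n) i = i + n := by
  induction n with
  | zero => simp
  | succ n ih =>
    rw [pow_succ', Equiv.Perm.mul_apply, ih]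
    show i + n + 1 = _
    push_cast
    ring

theorem affine {g : Equiv.Perm (ZMod 11)} {k : ℕ} (h : g * sigma11 = sigma11 ^ k * g) :
    ∀ i, g i = k * i + g 0 := by
  have h1 : ∀ i, g (i + 1) = g i + k := fun i => by
    have := Equiv.ext_iff.1 h i
    rwa [Equiv.Perm.mul_apply, Equiv.Perm.mul_apply, sigma11_pow] at this
  have h2 : ∀ n : ℕ, g n = (k : ZMod 11) * n + g 0 := fun n => by
    induction n with
    | zero => simp
    | succ n ih => rw [Nat.cast_succ, h1, ih]; ring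
  intro i
  have := h2 i.val
  rwa [ZMod.natCast_zmod_val] at this

universe u

theorem mem_normalizer_zpowers {G : Type u} [Group G] [Finite G] {a g : G}
    (h : a * g * a⁻¹ ∈ Subgroup.zpowers g) :
    a ∈ Subgroup.normalizer ((Subgroup.zpowers g : Subgroup G) : Set G) := by
  rw [Subgroup.mem_normalizer_iff_map_conj_eq]
  refine Subgroup.eq_of_le_of_card_ge ?_
    (Subgroup.card_map_of_injective (MulAut.conj a).injective).ge
  rw [MonoidHom.map_zpowers, Subgroup.zpowers_le]
  exact h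

variable {G : Type u} [Group G] [Fintype G] [IsSimpleGroup G] (hG : Nat.card G = 7920)
include hG

/-- An element of prime order 5 or 11, its centralizer and its normalizer. -/
theorem prime_data {p : ℕ} [Fact p.Prime] (hp : p = 5 ∨ p = 11) {g : G} (hg : orderOf g = p) :
    Nat.card (Subgroup.centralizer ({g} : Set G)) = p ∧
      Nat.card (Subgroup.normalizer ((Subgroup.zpowers g : Subgroup G) : Set G)) =
        if p = 5 then 20 else 55 := by
  obtain ⟨P, hP⟩ := (IsPGroup.of_card (p := p) (n := 1)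
    (by rw [Nat.card_zpowers, hg, pow_one]) : IsPGroup p (Subgroup.zpowers g)).exists_le_sylow
  have hgP := hP (Subgroup.mem_zpowers g)
  have hg1 : g ≠ 1 := fun h => by
    rw [h, orderOf_one] at hg
    exact (Fact.out : p.Prime).ne_one hg.symm
  have key : ∀ e, BlockThms.OrderP.Setup P e →
      Nat.card (Subgroup.centralizer (P : Set G)) = p →
      Nat.card (Subgroup.centralizer ({g} : Set G)) = p ∧
        Nat.card (Subgroup.normalizer ((Subgroup.zpowers g : Subgroup G) : Set G)) = p * e := by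
    intro e hS hC
    refine ⟨by rw [hS.centralizer_eq hgP hg1]; exact hC, ?_⟩
    rw [hS.zpowers_eq hgP hg1]
    have hle : Subgroup.centralizer (P : Set G) ≤ Subgroup.normalizer ((P : Subgroup G) : Set G) :=
      Subgroup.centralizer_le_normalizer _
    rw [← Subgroup.card_mul_index ((Subgroup.centralizer (P : Set G)).subgroupOf
      (Subgroup.normalizer ((P : Subgroup G) : Set G))),
      Nat.card_congr (Subgroup.subgroupOfEquivOfLe hle).toEquiv, hC]
    exact congrArg (p * ·) hS.rel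
  rcases hp with rfl | rfl
  · obtain ⟨hS, hC⟩ := S4429.five hG P
    exact key 4 hS hC
  · obtain ⟨hS, hC⟩ := S4429.eleven hG P
    exact key 5 hS hC

theorem exists_sigma_mu : ∃ φ : G →* Equiv.Perm (ZMod 11), Function.Injective φ ∧
    ∃ s m : G, φ s = sigma11 ∧ φ m = mu11 := by
  classical
  obtain ⟨φ₀, hφ₀⟩ := exists_perm11 hG
  let e : Fin 11 ≃ ZMod 11 := (ZMod.finEquiv 11).toEquiv
  let φ₁ : G →* Equiv.Perm (ZMod 11) := e.permCongrHom.toMonoidHom.comp φ₀
  have hφ₁ : Function.Injective φ₁ := e.permCongrHom.injective.comp hφ₀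
  obtain ⟨s, hs⟩ := exists_prime_orderOf_dvd_card' (G := G) 11 (by rw [hG]; norm_num)
  have ho : orderOf (φ₁ s) = 11 := by rw [orderOf_injective φ₁ hφ₁, hs]
  have hoσ : orderOf sigma11 = 11 :=
    orderOf_eq_prime (Equiv.ext fun i => by rw [sigma11_pow]; exact add_zero i)
      fun h => absurd (Equiv.ext_iff.1 h 0) (by decide +kernel)
  have hc : ∀ f : Equiv.Perm (ZMod 11), orderOf f = 11 → f.IsCycle := fun f hf =>
    Equiv.Perm.isCycle_of_prime_order' (by rw [hf]; norm_num) (by rw [hf, ZMod.card]; norm_num)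
  obtain ⟨π, hπ⟩ := isConj_iff.1 ((hc _ ho).isConj (hc _ hoσ)
    (by rw [← (hc _ ho).orderOf, ← (hc _ hoσ).orderOf, ho, hoσ]))
  let φ : G →* Equiv.Perm (ZMod 11) := (MulAut.conj π).toMonoidHom.comp φ₁
  have hφ : Function.Injective φ := (MulAut.conj π).injective.comp hφ₁
  have hφs : φ s = sigma11 := hπ
  obtain ⟨⟨m, hmN⟩, hm⟩ := exists_prime_orderOf_dvd_card' 5
    (show 5 ∣ Nat.card (Subgroup.normalizer ((Subgroup.zpowers s : Subgroup G) : Set G)) by
      rw [(prime_data hG (Or.inr rfl) hs).2]; norm_num)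
  rw [← Subgroup.orderOf_coe] at hm
  have hmem : m * s * m⁻¹ ∈ Subgroup.zpowers s :=
    (Subgroup.mem_normalizer_iff.1 hmN s).1 (Subgroup.mem_zpowers s)
  rw [← mem_powers_iff_mem_zpowers, mem_powers_iff_mem_range_orderOf, hs] at hmem
  obtain ⟨k, hk, hks⟩ := Finset.mem_image.1 hmem
  rw [Finset.mem_range] at hk
  have hk1 : k ≠ 1 := fun h => by
    rw [h, pow_one] at hks
    have hC : m ∈ Subgroup.centralizer ({s} : Set G) :=
      Subgroup.mem_centralizer_singleton_iff.2 (eq_mul_inv_iff_mul_eq.1 hks).symm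
    have := Subgroup.orderOf_dvd_natCard _ hC
    rw [hm, (prime_data hG (Or.inr rfl) hs).1] at this
    norm_num at this
  have haff := affine (g := φ m) (k := k) (by
    have := congrArg φ (mul_inv_eq_iff_eq_mul.1 hks.symm)
    rwa [map_mul, map_mul, map_pow, hφs] at this)
  obtain ⟨c, hc'⟩ : ∃ c : ℕ, (c : ZMod 11) = -(φ m 0) := ⟨_, ZMod.natCast_zmod_val _⟩
  have hpow : ∀ (j : ℕ) (i : ZMod 11), φ ((s ^ c * m) ^ j) i = (k : ZMod 11) ^ j * i := by
    intro j
    induction j with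
    | zero => intro i; simp
    | succ j ih =>
      intro i
      rw [pow_succ, map_mul, Equiv.Perm.mul_apply, ih, map_mul, map_pow, hφs,
        Equiv.Perm.mul_apply, sigma11_pow, haff, hc']
      ring
  have hk5 : (k : ZMod 11) ^ 5 = 1 := by
    have h1 : ∀ j : ℕ, φ (m ^ j) 1 - φ (m ^ j) 0 = (k : ZMod 11) ^ j := fun j => by
      induction j with
      | zero => simp
      | succ j ih =>
        rw [pow_succ', map_mul, Equiv.Perm.mul_apply, Equiv.Perm.mul_apply, haff, haff (φ (m ^ j) 0)]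
        linear_combination (k : ZMod 11) * ih
    have h5 : m ^ 5 = 1 := by rw [← hm]; exact pow_orderOf_eq_one _
    rw [← h1 5, h5]
    simp
  have hdec : ∀ k : ℕ, k < 11 → k ≠ 1 → (k : ZMod 11) ^ 5 = 1 →
      ∃ j : Fin 5, (k : ZMod 11) ^ (j : ℕ) = 3 := by decide +kernel
  obtain ⟨j, hj⟩ := hdec k hk hk1 hk5
  exact ⟨φ, hφ, s, (s ^ c * m) ^ (j : ℕ), hφs, Equiv.ext fun i => by rw [hpow, hj]; rfl⟩

omit [IsSimpleGroup G] in
theorem no_seven {φ : G →* Equiv.Perm (ZMod 11)} (hφ : Function.Injective φ) (x : G) (o : ℕ)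
    (h1 : ∀ i, (φ x)^[7 * o] i = i) (h2 : ∃ i, (φ x)^[o] i ≠ i) : False := by
  haveI : Fact (Nat.Prime 7) := ⟨by norm_num⟩
  have h7 : orderOf (x ^ o) = 7 := by
    refine orderOf_eq_prime ?_ fun h => ?_
    · refine hφ (Equiv.ext fun i => ?_)
      rw [← pow_mul, mul_comm, map_pow, map_one, Equiv.Perm.coe_pow]
      exact h1 i
    · obtain ⟨i, hi⟩ := h2
      refine hi ?_
      rw [← Equiv.Perm.coe_pow, ← map_pow, h, map_one]
      rfl
  have := orderOf_dvd_natCard (x ^ o)
  rw [h7, hG] at this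
  norm_num at this

theorem normal_form : ∃ φ : G →* Equiv.Perm (ZMod 11), Function.Injective φ ∧
    ∃ s m t : G, φ s = sigma11 ∧ φ m = mu11 ∧ φ t = tau11 := by
  classical
  obtain ⟨φ, hφ, s, m, hs, hm⟩ := exists_sigma_mu hG
  have hmo : orderOf m = 5 := by
    rw [← orderOf_injective φ hφ, hm]
    exact orderOf_eq_prime (Equiv.ext (by decide +kernel))
      fun h => absurd (Equiv.ext_iff.1 h 1) (by decide +kernel)
  obtain ⟨hC, hN⟩ := prime_data hG (Or.inl rfl) hmo
  rw [if_pos rfl] at hN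
  obtain ⟨L, hL⟩ := Sylow.exists_subgroup_card_pow_prime
    (G := Subgroup.normalizer ((Subgroup.zpowers m : Subgroup G) : Set G)) 2 (n := 2)
    (by rw [hN]; norm_num)
  have hk : ∀ a : L, ∃ k : {k : Fin 5 // k ≠ 0},
      ((a : _) : G) * m * ((a : _) : G)⁻¹ = m ^ (k.1 : ℕ) := fun a => by
    have hmem := (Subgroup.mem_normalizer_iff.1 a.1.2 m).1 (Subgroup.mem_zpowers m)
    rw [← mem_powers_iff_mem_zpowers, mem_powers_iff_mem_range_orderOf, hmo] at hmem
    obtain ⟨k, hk, hkm⟩ := Finset.mem_image.1 hmem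
    rw [Finset.mem_range] at hk
    refine ⟨⟨⟨k, hk⟩, fun h => ?_⟩, hkm.symm⟩
    rw [Fin.ext_iff] at h
    simp only [Fin.val_zero] at h
    rw [h, pow_zero, eq_comm, conj_eq_one_iff] at hkm
    rw [hkm, orderOf_one] at hmo
    omega
  choose f hf using hk
  have hfi : Function.Injective f := fun a b hab => by
    have he : ((a : _) : G) * m * ((a : _) : G)⁻¹ = ((b : _) : G) * m * ((b : _) : G)⁻¹ := by
      rw [hf, hf, hab]
    have hcm : (((b⁻¹ * a : L) : _) : G) ∈ Subgroup.centralizer ({m} : Set G) := by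
      rw [Subgroup.mem_centralizer_singleton_iff]
      show ((b : _) : G)⁻¹ * ((a : _) : G) * m = m * (((b : _) : G)⁻¹ * ((a : _) : G))
      calc ((b : _) : G)⁻¹ * ((a : _) : G) * m
          = ((b : _) : G)⁻¹ * (((a : _) : G) * m * ((a : _) : G)⁻¹) * ((a : _) : G) := by group
        _ = m * (((b : _) : G)⁻¹ * ((a : _) : G)) := by rw [he]; group
    have h5 := Subgroup.orderOf_dvd_natCard _ hcm
    have h4 := orderOf_dvd_natCard (b⁻¹ * a : L)
    rw [hC, Subgroup.orderOf_coe, Subgroup.orderOf_coe] at h5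
    rw [hL] at h4
    have := Nat.dvd_gcd h5 h4
    exact (inv_mul_eq_one.1 (orderOf_eq_one_iff.1 (Nat.dvd_one.1 (by simpa using this)))).symm
  obtain ⟨a, ha⟩ := ((Nat.bijective_iff_injective_and_card f).2 ⟨hfi, by
    rw [hL, Nat.card_eq_fintype_card]; rfl⟩).2 ⟨2, by decide⟩
  obtain ⟨t, ht⟩ : ∃ t : G, t * m * t⁻¹ = m ^ 2 := ⟨_, by rw [hf a, ha]; rfl⟩
  have hrel : ∀ i, φ t (3 * i) = 9 * φ t i := fun i => by
    have h := Equiv.ext_iff.1 (congrArg φ (mul_inv_eq_iff_eq_mul.1 ht)) i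
    rw [map_mul, map_mul, map_pow, hm, Equiv.Perm.mul_apply, Equiv.Perm.mul_apply] at h
    refine h.trans ?_
    show 3 * (3 * φ t i) = 9 * φ t i
    ring
  have h0 : φ t 0 = 0 := by
    have hz : ∀ x : ZMod 11, x = 9 * x → x = 0 := by decide +kernel
    refine hz _ ?_
    conv_lhs => rw [show (0 : ZMod 11) = 3 * 0 from rfl]
    exact hrel 0
  have ha1 : φ t 1 ≠ 0 := fun h => by
    have := (φ t).injective (h.trans h0.symm)
    exact absurd this (by decide +kernel)
  have hnorm : ∀ x : ZMod 11, x ≠ 0 → ∃ j : Fin 5, (3 : ZMod 11) ^ (j : ℕ) * x = 1 ∨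
      (3 : ZMod 11) ^ (j : ℕ) * x = 2 := by decide +kernel
  obtain ⟨j, hj⟩ := hnorm _ ha1
  have hmj : ∀ (n : ℕ) (i : ZMod 11), φ (m ^ n * t) i = (3 : ZMod 11) ^ n * φ t i := fun n i => by
    induction n with
    | zero => simp
    | succ n ih =>
      rw [pow_succ', mul_assoc, map_mul, hm, Equiv.Perm.mul_apply, ih, pow_succ' (3 : ZMod 11),
        mul_assoc]
      rfl
  obtain ⟨t₁, ht₁⟩ : ∃ t₁, t₁ = m ^ (j : ℕ) * t := ⟨_, rfl⟩
  have htab : ∀ i, φ t₁ i = tab (φ t₁ 1) (φ t₁ 2) i := by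
    refine tab_eq ?_ fun i => ?_
    · rw [ht₁, hmj, h0, mul_zero]
    · rw [ht₁, hmj, hmj, hrel]; ring
  obtain ⟨a₁, hA⟩ : ∃ a₁, a₁ = φ t₁ 1 := ⟨_, rfl⟩
  obtain ⟨b₁, hB⟩ : ∃ b₁, b₁ = φ t₁ 2 := ⟨_, rfl⟩
  rw [← hA, ← hB] at htab
  have ha12 : a₁ = 1 ∨ a₁ = 2 := by rw [hA, ht₁, hmj]; exact hj
  have hinj : Function.Injective (tab a₁ b₁) := by
    rw [← funext htab]; exact (φ t₁).injective
  have hlist : ∀ a b : ZMod 11, (a = 1 ∨ a = 2) → Function.Injective (tab a b) →
      (a = 1 ∧ (b = 2 ∨ b = 6 ∨ b = 7 ∨ b = 8 ∨ b = 10)) ∨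
        (a = 2 ∧ (b = 1 ∨ b = 3 ∨ b = 4 ∨ b = 5 ∨ b = 9)) := by decide +kernel
  have hT : ⇑(φ t₁) = tab a₁ b₁ := funext htab
  rcases hlist _ _ ha12 hinj with
    ⟨rfl, rfl | rfl | rfl | rfl | rfl⟩ | ⟨rfl, rfl | rfl | rfl | rfl | rfl⟩
  · exact (no_seven hG hφ (s ^ 1 * m ^ 2 * t₁ ^ 1) 3
      (by simp only [map_mul, map_pow, hs, hm, Equiv.Perm.coe_mul, Equiv.Perm.coe_pow, hT]; decide +kernel)
      (by simp only [map_mul, map_pow, hs, hm, Equiv.Perm.coe_mul, Equiv.Perm.coe_pow, hT]; decide +kernel)).elim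
  · refine ⟨(MulAut.conj neg11).toMonoidHom.comp φ, (MulAut.conj neg11).injective.comp hφ,
      s⁻¹, m, m * t₁, ?_, ?_, ?_⟩
    · show neg11 * φ s⁻¹ * neg11⁻¹ = _
      rw [map_inv, hs]
      exact Equiv.ext (by decide +kernel)
    · show neg11 * φ m * neg11⁻¹ = _
      rw [hm]
      exact Equiv.ext (by decide +kernel)
    · show neg11 * φ (m * t₁) * neg11⁻¹ = _
      rw [map_mul, hm]
      refine Equiv.ext fun i => ?_
      simp only [Equiv.Perm.coe_mul, Function.comp_apply, hT]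
      revert i
      decide +kernel
  · exact (no_seven hG hφ (s ^ 1 * m ^ 1 * t₁ ^ 1) 2
      (by simp only [map_mul, map_pow, hs, hm, Equiv.Perm.coe_mul, Equiv.Perm.coe_pow, hT]; decide +kernel)
      (by simp only [map_mul, map_pow, hs, hm, Equiv.Perm.coe_mul, Equiv.Perm.coe_pow, hT]; decide +kernel)).elim
  · exact (no_seven hG hφ (s ^ 1 * m ^ 0 * t₁ ^ 3) 3
      (by simp only [map_mul, map_pow, hs, hm, Equiv.Perm.coe_mul, Equiv.Perm.coe_pow, hT]; decide +kernel)
      (by simp only [map_mul, map_pow, hs, hm, Equiv.Perm.coe_mul, Equiv.Perm.coe_pow, hT]; decide +kernel)).elim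
  · exact ⟨φ, hφ, s, m, t₁, hs, hm, Equiv.ext fun i => htab i⟩
  · exact (no_seven hG hφ (s ^ 1 * m ^ 0 * t₁ ^ 1) 2
      (by simp only [map_mul, map_pow, hs, hm, Equiv.Perm.coe_mul, Equiv.Perm.coe_pow, hT]; decide +kernel)
      (by simp only [map_mul, map_pow, hs, hm, Equiv.Perm.coe_mul, Equiv.Perm.coe_pow, hT]; decide +kernel)).elim
  · exact (no_seven hG hφ (s ^ 1 * m ^ 0 * t₁ ^ 1 * (s ^ 1 * m ^ 1 * t₁ ^ 1)) 3
      (by simp only [map_mul, map_pow, hs, hm, Equiv.Perm.coe_mul, Equiv.Perm.coe_pow, hT]; decide +kernel)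
      (by simp only [map_mul, map_pow, hs, hm, Equiv.Perm.coe_mul, Equiv.Perm.coe_pow, hT]; decide +kernel)).elim
  · exact (no_seven hG hφ (s ^ 1 * m ^ 1 * t₁ ^ 3) 4
      (by simp only [map_mul, map_pow, hs, hm, Equiv.Perm.coe_mul, Equiv.Perm.coe_pow, hT]; decide +kernel)
      (by simp only [map_mul, map_pow, hs, hm, Equiv.Perm.coe_mul, Equiv.Perm.coe_pow, hT]; decide +kernel)).elim
  · exact (no_seven hG hφ (s ^ 1 * m ^ 1 * t₁ ^ 1) 4
      (by simp only [map_mul, map_pow, hs, hm, Equiv.Perm.coe_mul, Equiv.Perm.coe_pow, hT]; decide +kernel)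
      (by simp only [map_mul, map_pow, hs, hm, Equiv.Perm.coe_mul, Equiv.Perm.coe_pow, hT]; decide +kernel)).elim
  · exact (no_seven hG hφ (s ^ 1 * m ^ 0 * t₁ ^ 3) 2
      (by simp only [map_mul, map_pow, hs, hm, Equiv.Perm.coe_mul, Equiv.Perm.coe_pow, hT]; decide +kernel)
      (by simp only [map_mul, map_pow, hs, hm, Equiv.Perm.coe_mul, Equiv.Perm.coe_pow, hT]; decide +kernel)).elim

theorem range_eq : ∃ φ : G →* Equiv.Perm (ZMod 11), Function.Injective φ ∧
    φ.range = Subgroup.closure {sigma11, mu11, tau11} := by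
  classical
  obtain ⟨φ, hφ, s, m, t, hs, hm, ht⟩ := normal_form hG
  refine ⟨φ, hφ, ?_⟩
  obtain ⟨H, hH⟩ : ∃ H : Subgroup G, H = Subgroup.closure {s, m, t} := ⟨_, rfl⟩
  suffices htop : H = ⊤ by
    rw [MonoidHom.range_eq_map, ← htop, hH, MonoidHom.map_closure, Set.image_insert_eq,
      Set.image_insert_eq, Set.image_singleton, hs, hm, ht]
  have hsH : s ∈ H := hH ▸ Subgroup.subset_closure (by simp)
  have hmH : m ∈ H := hH ▸ Subgroup.subset_closure (by simp)
  have htH : t ∈ H := hH ▸ Subgroup.subset_closure (by simp)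
  have hso : orderOf s = 11 := by
    rw [← orderOf_injective φ hφ, hs]
    exact orderOf_eq_prime (Equiv.ext (by decide +kernel))
      fun h => absurd (Equiv.ext_iff.1 h 0) (by decide +kernel)
  have hmo : orderOf m = 5 := by
    rw [← orderOf_injective φ hφ, hm]
    exact orderOf_eq_prime (Equiv.ext (by decide +kernel))
      fun h => absurd (Equiv.ext_iff.1 h 1) (by decide +kernel)
  have hto : orderOf t = 4 := by
    rw [← orderOf_injective φ hφ, ht]
    exact orderOf_eq_prime_pow (p := 2) (n := 1)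
      (fun h => absurd (Equiv.ext_iff.1 h 2) (by decide +kernel))
      (Equiv.ext (by decide +kernel))
  have hms : m ∈ Subgroup.normalizer ((Subgroup.zpowers s : Subgroup G) : Set G) := by
    have he : m * s * m⁻¹ = s ^ 3 := hφ (by
      rw [map_mul, map_mul, map_inv, map_pow, hs, hm]; exact Equiv.ext (by decide +kernel))
    exact mem_normalizer_zpowers (by rw [he]; exact pow_mem (Subgroup.mem_zpowers s) 3)
  have htm : t ∈ Subgroup.normalizer ((Subgroup.zpowers m : Subgroup G) : Set G) := by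
    have he : t * m * t⁻¹ = m ^ 2 := hφ (by
      rw [map_mul, map_mul, map_inv, map_pow, hm, ht]; exact Equiv.ext (by decide +kernel))
    exact mem_normalizer_zpowers (by rw [he]; exact pow_mem (Subgroup.mem_zpowers m) 2)
  -- the two Sylow normalizers lie in `H`
  have hN : ∀ (p : ℕ) [Fact p.Prime], p = 5 ∨ p = 11 → ∀ g y : G, orderOf g = p → g ∈ H →
      y ∈ H → y ∈ Subgroup.normalizer ((Subgroup.zpowers g : Subgroup G) : Set G) →
      orderOf y = (if p = 5 then 4 else 5) →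
      Subgroup.normalizer ((Subgroup.zpowers g : Subgroup G) : Set G) ≤ H := by
    intro p _ hp g y hg hgH hyH hy hyo
    refine inf_eq_left.1 (Subgroup.eq_of_le_of_card_ge inf_le_left ?_)
    have h1 := Subgroup.orderOf_dvd_natCard
      (Subgroup.normalizer ((Subgroup.zpowers g : Subgroup G) : Set G) ⊓ H)
      ⟨Subgroup.le_normalizer (Subgroup.mem_zpowers g), hgH⟩
    have h2 := Subgroup.orderOf_dvd_natCard
      (Subgroup.normalizer ((Subgroup.zpowers g : Subgroup G) : Set G) ⊓ H) ⟨hy, hyH⟩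
    rw [hg] at h1
    rw [hyo] at h2
    rw [(prime_data hG hp hg).2]
    refine Nat.le_of_dvd Nat.card_pos ?_
    rcases hp with rfl | rfl
    · simpa using Nat.Coprime.mul_dvd_of_dvd_of_dvd (show Nat.Coprime 5 4 by norm_num) h1
        (by simpa using h2)
    · simpa using Nat.Coprime.mul_dvd_of_dvd_of_dvd (show Nat.Coprime 11 5 by norm_num) h1
        (by simpa using h2)
  have hdata : ∀ (p : ℕ) [Fact p.Prime], (p = 5 ∨ p = 11) → ∀ g : G, orderOf g = p → g ∈ H →
      Subgroup.normalizer ((Subgroup.zpowers g : Subgroup G) : Set G) ≤ H →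
      ∃ n, n % p = 1 ∧ Nat.card H = (if p = 5 then 20 else 55) * n := by
    intro p _ hp g hg hgH hNH
    have hle : Subgroup.zpowers g ≤ H := Subgroup.zpowers_le.2 hgH
    obtain ⟨Q, hQ⟩ := (IsPGroup.of_card (p := p) (n := 1) (by
      rw [Nat.card_congr (Subgroup.subgroupOfEquivOfLe hle).toEquiv, Nat.card_zpowers, hg, pow_one]) :
      IsPGroup p ((Subgroup.zpowers g).subgroupOf H)).exists_le_sylow
    have hQc : Nat.card (Q : Subgroup H) ≤ p := by
      obtain ⟨n, hn⟩ := Q.isPGroup'.exists_card_eq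
      have hd : p ^ n ∣ 7920 := by
        rw [← hn, ← hG]
        exact (Subgroup.card_subgroup_dvd_card _).trans (Subgroup.card_subgroup_dvd_card H)
      rw [hn]
      match n with
      | 0 => simpa using (Fact.out : p.Prime).one_lt.le
      | 1 => simp
      | n + 2 =>
        exfalso
        have := (pow_dvd_pow p (Nat.le_add_left 2 n)).trans hd
        rcases hp with rfl | rfl <;> norm_num at this
    have hQe : (Q : Subgroup H) = (Subgroup.zpowers g).subgroupOf H :=
      (Subgroup.eq_of_le_of_card_ge hQ (by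
        rw [Nat.card_congr (Subgroup.subgroupOfEquivOfLe hle).toEquiv, Nat.card_zpowers, hg]
        exact hQc)).symm
    refine ⟨Nat.card (Sylow p H), by
      rw [card_sylow_modEq_one p H]; exact Nat.one_mod_eq_one.2 (Fact.out : p.Prime).ne_one, ?_⟩
    have h := Subgroup.card_mul_index
      (Subgroup.normalizer ((Q : Subgroup H) : Set H))
    have hi : (Subgroup.normalizer ((Q : Subgroup H) : Set H)).index = Nat.card (Sylow p H) :=
      (Sylow.card_eq_index_normalizer Q).symm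
    rw [hi] at h
    rw [← h]
    congr 1
    rw [← (prime_data hG hp hg).2, hQe, ← Subgroup.subgroupOf_normalizer_eq hle,
      Nat.card_congr (Subgroup.subgroupOfEquivOfLe hNH).toEquiv]
  obtain ⟨a, ha, ha'⟩ := hdata 11 (Or.inr rfl) s hso hsH
    (hN 11 (Or.inr rfl) s m hso hsH hmH hms (by simpa using hmo))
  obtain ⟨b, hb, hb'⟩ := hdata 5 (Or.inl rfl) m hmo hmH
    (hN 5 (Or.inl rfl) m t hmo hmH htH htm (by simpa using hto))
  rw [if_neg (by norm_num)] at ha'
  rw [if_pos rfl] at hb'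
  refine Subgroup.eq_top_of_le_card _ ?_
  rw [hG]
  have hd : Nat.card H ∣ 7920 := hG ▸ Subgroup.card_subgroup_dvd_card H
  have ha144 : a ∣ 144 := by
    refine Nat.dvd_of_mul_dvd_mul_left (k := 55) (by norm_num) ?_
    rw [← ha']; exact hd
  have hmain : ∀ a ∈ Nat.divisors 144, a % 11 = 1 → (55 * a) % 20 = 0 →
      55 * a / 20 % 5 = 1 → 7920 ≤ 55 * a := by decide +kernel
  rw [ha']
  refine hmain a (Nat.mem_divisors.2 ⟨ha144, by norm_num⟩) ha ?_ ?_
  · rw [← ha', hb']; exact Nat.mul_mod_right 20 b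
  · rw [← ha', hb', Nat.mul_div_cancel_left b (by norm_num)]; exact hb

omit hG in
/-- Any two simple groups of order 7920 are isomorphic. -/
theorem unique_7920 {H : Type*} [Group H] [Fintype H] [IsSimpleGroup H] (hG : Nat.card G = 7920)
    (hH : Nat.card H = 7920) : Nonempty (G ≃* H) := by
  obtain ⟨φ, hφ, hφr⟩ := range_eq hG
  obtain ⟨ψ, hψ, hψr⟩ := range_eq hH
  exact ⟨((MonoidHom.ofInjective hφ).trans (MulEquiv.subgroupCongr (hφr.trans hψr.symm))).trans
    (MonoidHom.ofInjective hψ).symm⟩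

end Cfsg.Agent.Fg24.M11
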