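import Cfsg.Agent.Fg24.M11.Values

/-!
# A simple group of order 7920: the 55 Sylow 3-subgroups and their normalizers
-/

set_option autoImplicit false
set_option linter.unusedSectionVars false

open Cfsg
open scoped Pointwise

namespace Cfsg.Agent.Fg24.M11

universe u

variable {G : Type u} [Group G] [Fintype G]

instance : Fact (Nat.Prime 3) := ⟨Nat.prime_three⟩

/-- The normalizer of a Sylow subgroup. -/
abbrev Nm (P : Sylow 3 G) : Subgroup G := Subgroup.normalizer ((P : Subgroup G) : Set G)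

/-- The centralizer of an element. -/
abbrev Cn (g : G) : Subgroup G := Subgroup.centralizer ({g} : Set G)

theorem mem_Cn {g a : G} : a ∈ Cn g ↔ Commute a g :=
  Subgroup.mem_centralizer_singleton_iff

theorem mem_Nm_iff {P : Sylow 3 G} {g : G} : g ∈ Nm P ↔ g • P = P :=
  Sylow.smul_eq_iff_mem_normalizer.symm

theorem conj_mem_smul {P : Sylow 3 G} {x : G} (hx : x ∈ (P : Subgroup G)) (g : G) :
    g * x * g⁻¹ ∈ ((g • P : Sylow 3 G) : Subgroup G) := by
  rw [Sylow.coe_subgroup_smul]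
  exact ⟨x, hx, rfl⟩

theorem conj_mem_of_Nm {P : Sylow 3 G} {n x : G} (hn : n ∈ Nm P) (hx : x ∈ (P : Subgroup G)) :
    n * x * n⁻¹ ∈ (P : Subgroup G) :=
  (Subgroup.mem_normalizer_iff.1 hn x).1 hx

theorem conj_mem_Nm {P : Sylow 3 G} {n : G} (hn : n ∈ Nm P) (g : G) :
    g * n * g⁻¹ ∈ Nm (g • P) := by
  rw [mem_Nm_iff] at hn ⊢
  rw [mul_smul, mul_smul, inv_smul_smul, hn]

/-- An involution acting without fixed points. -/
def Fpf (P : Sylow 3 G) (z : G) : Prop :=
  orderOf z = 2 ∧ z ∈ Nm P ∧ ∀ x ∈ (P : Subgroup G), Commute z x → x = 1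

theorem fpf_smul {P : Sylow 3 G} {z : G} (h : Fpf P z) (g : G) : Fpf (g • P) (g * z * g⁻¹) := by
  refine ⟨?_, conj_mem_Nm h.2.1 g, fun x hx hc => ?_⟩
  · rw [show g * z * g⁻¹ = MulAut.conj g z from rfl, MulEquiv.orderOf_eq, h.1]
  · rw [Sylow.coe_subgroup_smul] at hx
    obtain ⟨x₀, hx₀, rfl⟩ := hx
    have h1 : Commute z x₀ := by
      have h2 : g * z * g⁻¹ * (g * x₀ * g⁻¹) = g * x₀ * g⁻¹ * (g * z * g⁻¹) := hc.eq
      have h3 : g * (z * x₀) * g⁻¹ = g * (x₀ * z) * g⁻¹ := by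
        calc g * (z * x₀) * g⁻¹ = g * z * g⁻¹ * (g * x₀ * g⁻¹) := by group
          _ = g * x₀ * g⁻¹ * (g * z * g⁻¹) := h2
          _ = g * (x₀ * z) * g⁻¹ := by group
      exact mul_left_cancel (mul_right_cancel h3)
    rw [h.2.2 x₀ hx₀ h1]
    simp

variable [IsSimpleGroup G] (hG : Nat.card G = 7920)
include hG

theorem sylow_comm (P : Sylow 3 G) {x y : G} (hx : x ∈ (P : Subgroup G))
    (hy : y ∈ (P : Subgroup G)) : Commute x y := by
  have h := IsPGroup.commutative_of_card_eq_prime_sq (p := 3) (G := (P : Subgroup G))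
    (by rw [card_sylow_three hG P]; norm_num)
  exact congrArg Subtype.val (h ⟨x, hx⟩ ⟨y, hy⟩)

/-- A Sylow subgroup is normal in the centralizer of any of its elements of order three. -/
theorem Cn_le_Nm (P : Sylow 3 G) {u : G} (hu : orderOf u = 3) (huP : u ∈ (P : Subgroup G)) :
    Cn u ≤ Nm P := by
  have hle : (P : Subgroup G) ≤ Cn u := fun y hy => mem_Cn.2 (sylow_comm hG P hy huP)
  have hidx : ((P : Subgroup G).subgroupOf (Cn u)).index = 2 := by
    have h := Subgroup.card_mul_index ((P : Subgroup G).subgroupOf (Cn u))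
    rw [Nat.card_congr (Subgroup.subgroupOfEquivOfLe hle).toEquiv, card_sylow_three hG P,
      three_centralizer hG hu] at h
    omega
  have hn := Subgroup.normal_of_index_eq_two hidx
  intro g hg
  refine Subgroup.mem_normalizer_iff.2 fun y => ⟨fun hy => ?_, fun hy => ?_⟩
  · exact Subgroup.mem_subgroupOf.1 (hn.conj_mem ⟨y, hle hy⟩ (Subgroup.mem_subgroupOf.2 hy) ⟨g, hg⟩)
  · have hy' : y ∈ Cn u := by
      have h1 := (Cn u).mul_mem ((Cn u).mul_mem ((Cn u).inv_mem hg) (hle hy)) hg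
      rwa [show g⁻¹ * (g * y * g⁻¹) * g = y by group] at h1
    have h2 := Subgroup.mem_subgroupOf.1 (hn.conj_mem ⟨g * y * g⁻¹, hle hy⟩
      (Subgroup.mem_subgroupOf.2 hy) ⟨g⁻¹, (Cn u).inv_mem hg⟩)
    have h3 : g⁻¹ * (g * y * g⁻¹) * g⁻¹⁻¹ = y := by group
    rw [← h3]
    exact h2

theorem exists_involution_commute {u : G} (hu : orderOf u = 3) :
    ∃ i : G, orderOf i = 2 ∧ Commute i u := by
  haveI : Fact (Nat.Prime 2) := ⟨Nat.prime_two⟩
  obtain ⟨i, hi⟩ := exists_prime_orderOf_dvd_card' 2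
    (show 2 ∣ Nat.card (Cn u) by rw [three_centralizer hG hu]; norm_num)
  exact ⟨i, by rw [Subgroup.orderOf_coe]; exact hi, mem_Cn.1 i.2⟩

theorem not_commute_nine {i : G} (hi : orderOf i = 2) (P : Sylow 3 G)
    (h : ∀ x ∈ (P : Subgroup G), Commute i x) : False := by
  have hle : (P : Subgroup G) ≤ Cn i := fun y hy => mem_Cn.2 (h y hy).symm
  have h1 := Subgroup.card_dvd_of_le hle
  rw [card_sylow_three hG P, (inv_data hG).1 i hi] at h1
  norm_num at h1

/-- Sylow 3-subgroups have exponent three. -/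
theorem orderOf_three (P : Sylow 3 G) {y : G} (hy : y ∈ (P : Subgroup G)) (hy1 : y ≠ 1) :
    orderOf y = 3 := by
  have hd : orderOf y ∣ 9 := by
    rw [← card_sylow_three hG P]; exact Subgroup.orderOf_dvd_natCard _ hy
  obtain ⟨k, hk, hk'⟩ := (Nat.dvd_prime_pow Nat.prime_three (m := 2)).1 (by simpa using hd)
  interval_cases k
  · exact absurd (orderOf_eq_one_iff.1 (by simpa using hk')) hy1
  · simpa using hk'
  exfalso
  norm_num at hk'
  have hu : orderOf (y ^ 3) = 3 := by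
    rw [orderOf_pow, hk']
    norm_num
  obtain ⟨i, hi, hic⟩ := exists_involution_commute hG hu
  have hiN : i ∈ Nm P := Cn_le_Nm hG P hu (pow_mem hy 3) (mem_Cn.2 hic)
  have hP : (P : Subgroup G) = Subgroup.zpowers y :=
    (Subgroup.eq_of_le_of_card_ge (Subgroup.zpowers_le.2 hy)
      (by rw [Nat.card_zpowers, hk', card_sylow_three hG P])).symm
  have hconj := conj_mem_of_Nm hiN hy
  classical
  rw [hP, ← mem_powers_iff_mem_zpowers, mem_powers_iff_mem_range_orderOf, hk'] at hconj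
  obtain ⟨k, hk9, hky⟩ := Finset.mem_image.1 hconj
  rw [Finset.mem_range] at hk9
  have hii : i * i = 1 := by rw [← pow_two, ← hi, pow_orderOf_eq_one]
  have h3 : y ^ (k * 3) = y ^ 3 := by
    rw [pow_mul, hky, conj_pow]
    rw [show i * y ^ 3 * i⁻¹ = y ^ 3 from mul_inv_eq_of_eq_mul hic.eq]
  have h2 : y ^ (k * k) = y := by
    rw [pow_mul, hky, conj_pow, hky]
    have : i⁻¹ = i := inv_eq_of_mul_eq_one_right hii
    rw [this, ← mul_assoc, ← mul_assoc, hii, one_mul, mul_assoc, hii, mul_one]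
  have h3' := pow_eq_pow_iff_modEq.1 h3
  rw [hk', Nat.ModEq] at h3'
  have h2' := pow_eq_pow_iff_modEq.1 (h2.trans (pow_one y).symm)
  rw [hk', Nat.ModEq] at h2'
  have hk1 : k = 1 := by interval_cases k <;> omega
  rw [hk1, pow_one] at hky
  refine not_commute_nine hG hi P fun x hx => ?_
  rw [hP] at hx
  obtain ⟨j, rfl⟩ := Subgroup.mem_zpowers_iff.1 hx
  exact (show Commute i y from eq_mul_inv_iff_mul_eq.1 hky |>.symm).zpow_right j

/-- The trivial intersection property. -/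
theorem ti {P Q : Sylow 3 G} {x : G} (hxP : x ∈ (P : Subgroup G)) (hxQ : x ∈ (Q : Subgroup G))
    (hx1 : x ≠ 1) : P = Q := by
  have hx := orderOf_three hG P hxP hx1
  have hle : (Q : Subgroup G) ≤ Nm P := fun y hy =>
    Cn_le_Nm hG P hx hxP (mem_Cn.2 (sylow_comm hG Q hy hxQ))
  have hQP : (Q : Subgroup G) ≤ P := fun y hy => by
    have h : y ∈ (Q : Subgroup G) ⊓ Nm P := ⟨hy, hle hy⟩
    exact ((Q.isPGroup'.inf_normalizer_sylow P).le h).2
  exact Sylow.ext (Subgroup.eq_of_le_of_card_ge hQP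
    (by rw [card_sylow_three hG P, card_sylow_three hG Q])).symm

/-- An element of order three normalizing a Sylow subgroup lies in it. -/
theorem mem_of_Nm {P : Sylow 3 G} {g : G} (hg : orderOf g = 3) (hN : g ∈ Nm P) :
    g ∈ (P : Subgroup G) := by
  have h1 : IsPGroup 3 (Subgroup.zpowers g) :=
    IsPGroup.of_card (p := 3) (n := 1) (by rw [Nat.card_zpowers, hg, pow_one])
  exact ((h1.inf_normalizer_sylow P).le ⟨Subgroup.mem_zpowers g, hN⟩).2

theorem eq_of_mem_Nm {P Q : Sylow 3 G} {p : G} (hp : p ∈ (P : Subgroup G)) (hp1 : p ≠ 1)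
    (hN : p ∈ Nm Q) : P = Q :=
  ti hG hp (mem_of_Nm hG (orderOf_three hG P hp hp1) hN) hp1

theorem card_Nm (P : Sylow 3 G) : Nat.card (Sylow 3 G) = 55 ∧ Nat.card (Nm P) = 144 := by
  classical
  obtain ⟨u, hu⟩ := exists_prime_orderOf_dvd_card' (G := G) 3 (by rw [hG]; norm_num)
  have h440 : Nat.card {x : G // orderOf x = 3} = 440 := by
    have h1 : Nat.card {x : G // orderOf x = 3} = Nat.card {x : G // IsConj u x} := by
      refine Nat.card_congr (Equiv.subtypeEquivRight fun x => ⟨three_conj hG hu, fun h => ?_⟩)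
      obtain ⟨k, rfl⟩ := isConj_iff.1 h
      rw [← hu]
      exact (MulAut.conj k).orderOf_eq u
    rw [h1, Char.card_isConj_eq_index]
    have := card_centralizer_mul_index hG u
    rw [three_centralizer hG hu] at this
    omega
  let e : (Σ Q : Sylow 3 G, {x : (Q : Subgroup G) // x ≠ 1}) → {x : G // orderOf x = 3} :=
    fun a => ⟨(a.2.1 : G), orderOf_three hG a.1 a.2.1.2 fun h => a.2.2 (Subtype.ext h)⟩
  have hbij : Function.Bijective e := by
    constructor
    · rintro ⟨Q, x⟩ ⟨R, y⟩ h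
      have h' : ((x.1 : G)) = (y.1 : G) := congrArg Subtype.val h
      obtain rfl : Q = R := ti hG x.1.2 (h' ▸ y.1.2) fun h1 => x.2 (Subtype.ext h1)
      exact Sigma.ext rfl (heq_of_eq (Subtype.ext (Subtype.ext h')))
    · rintro ⟨x, hx⟩
      obtain ⟨Q, hQ⟩ := (IsPGroup.of_card (p := 3) (n := 1)
        (by rw [Nat.card_zpowers, hx, pow_one]) : IsPGroup 3 (Subgroup.zpowers x)).exists_le_sylow
      refine ⟨⟨Q, ⟨⟨x, hQ (Subgroup.mem_zpowers x)⟩, fun h => ?_⟩⟩, rfl⟩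
      rw [show x = 1 from congrArg Subtype.val h, orderOf_one] at hx
      omega
  have hcard := Nat.card_congr (Equiv.ofBijective e hbij)
  haveI := Fintype.ofFinite (Sylow 3 G)
  rw [Nat.card_sigma, h440, Finset.sum_congr rfl (g := fun _ => 8) fun Q _ => by
    rw [Nat.card_eq_fintype_card, Fintype.card_subtype_compl, Fintype.card_subtype_eq,
      ← Nat.card_eq_fintype_card, card_sylow_three hG Q], Finset.sum_const, Finset.card_univ,
    smul_eq_mul, ← Nat.card_eq_fintype_card] at hcard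
  refine ⟨by omega, ?_⟩
  have h := Subgroup.card_mul_index (Nm P)
  rw [show (Nm P).index = Nat.card (Sylow 3 G) from (Sylow.card_eq_index_normalizer P).symm,
    hG] at h
  have : Nat.card (Sylow 3 G) = 55 := by omega
  rw [this] at h
  omega

theorem mem_of_centralizes {P : Sylow 3 G} {g : G} (h : ∀ x ∈ (P : Subgroup G), Commute g x) :
    g ∈ (P : Subgroup G) := by
  haveI : Fact (Nat.Prime 2) := ⟨Nat.prime_two⟩
  obtain ⟨⟨u, huP⟩, hu⟩ := exists_prime_orderOf_dvd_card' (G := (P : Subgroup G)) 3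
    (by rw [card_sylow_three hG P]; norm_num)
  rw [← Subgroup.orderOf_coe] at hu
  obtain ⟨n, hn⟩ : ∃ n, n = orderOf g := ⟨_, rfl⟩
  have hgu : g ∈ Cn u := mem_Cn.2 (h u huP)
  have hgN : g ∈ Nm P := Cn_le_Nm hG P hu huP hgu
  have hd : n ∣ 18 := by
    rw [hn, ← three_centralizer hG hu]; exact Subgroup.orderOf_dvd_natCard _ hgu
  by_cases h2 : 2 ∣ n
  · exfalso
    obtain ⟨m, hm⟩ := h2
    have hm0 : 0 < m := by have := orderOf_pos g; omega
    refine not_commute_nine hG (i := g ^ m) ?_ P fun x hx => (h x hx).pow_left m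
    rw [orderOf_pow, ← hn, hm, Nat.gcd_mul_left_left, Nat.mul_div_cancel _ hm0]
  · have hd9 : n ∣ 9 :=
      ((Nat.prime_two.coprime_iff_not_dvd.2 h2).symm).dvd_of_dvd_mul_left (show n ∣ 2 * 9 by simpa)
    have hp : IsPGroup 3 (Subgroup.zpowers g) := by
      obtain ⟨j, -, hj⟩ := (Nat.dvd_prime_pow Nat.prime_three (m := 2)).1 (by simpa using hd9)
      exact IsPGroup.of_card (p := 3) (n := j) (by rw [Nat.card_zpowers, ← hn, hj])
    exact ((hp.inf_normalizer_sylow P).le ⟨Subgroup.mem_zpowers g, hgN⟩).2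

/-- Fixed-point-free involutions invert. -/
theorem fpf_inverts {P : Sylow 3 G} {z : G} (h : Fpf P z) {x : G} (hx : x ∈ (P : Subgroup G)) :
    z * x * z⁻¹ = x⁻¹ := by
  have hzz : z * z = 1 := by rw [← pow_two, ← h.1, pow_orderOf_eq_one]
  have hz' : z⁻¹ = z := inv_eq_of_mul_eq_one_right hzz
  have hy : z * x * z⁻¹ ∈ (P : Subgroup G) := conj_mem_of_Nm h.2.1 hx
  have hc := sylow_comm hG P hx hy
  have hfix : x * (z * x * z⁻¹) = 1 := by
    refine h.2.2 _ (mul_mem hx hy) ?_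
    show z * (x * (z * x * z⁻¹)) = x * (z * x * z⁻¹) * z
    rw [hz'] at hc ⊢
    calc z * (x * (z * x * z)) = (z * x * z) * x * z := by
          calc z * (x * (z * x * z)) = (z * x * z) * (x * z) := by group
            _ = _ := by group
      _ = x * (z * x * z) * z := by rw [hc.eq]
  exact (eq_inv_of_mul_eq_one_right hfix)

theorem fpf_mul_mem {P : Sylow 3 G} {z i : G} (hz : Fpf P z) (hi : Fpf P i) :
    i * z ∈ (P : Subgroup G) := by
  refine mem_of_centralizes hG fun x hx => ?_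
  have h1 := fpf_inverts hG hz hx
  have h2 := fpf_inverts hG hi (inv_mem hx)
  rw [inv_inv] at h2
  show i * z * x = x * (i * z)
  calc i * z * x = i * (z * x * z⁻¹) * i⁻¹ * (i * z) := by group
    _ = x * (i * z) := by rw [h1, h2]

/-- A subgroup of order 16 of a Sylow normalizer. -/
structure IsW (P : Sylow 3 G) (W : Subgroup G) : Prop where
  le : W ≤ Nm P
  card : Nat.card W = 16

omit [IsSimpleGroup G] hG in
theorem two_pow_of_W {W : Subgroup G} (hW : Nat.card W = 16) : IsPGroup 2 W :=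
  IsPGroup.of_card (p := 2) (n := 4) (by rw [hW]; norm_num)

theorem W_inter {P : Sylow 3 G} {W : Subgroup G} (hW : IsW P W) {g : G} (hgW : g ∈ W)
    (hgP : g ∈ (P : Subgroup G)) : g = 1 := by
  have h1 := Subgroup.orderOf_dvd_natCard _ hgW
  have h2 := Subgroup.orderOf_dvd_natCard _ hgP
  rw [hW.card] at h1
  rw [card_sylow_three hG P] at h2
  exact orderOf_eq_one_iff.1 (Nat.dvd_one.1 (by simpa using Nat.dvd_gcd h1 h2))

/-- `N(P) = P W`. -/
theorem exists_mul {P : Sylow 3 G} {W : Subgroup G} (hW : IsW P W) {n : G} (hn : n ∈ Nm P) :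
    ∃ p ∈ (P : Subgroup G), ∃ w ∈ W, n = p * w := by
  classical
  let f : ↥(P : Subgroup G) × W → Nm P := fun a =>
    ⟨(a.1 : G) * a.2, mul_mem (Subgroup.le_normalizer a.1.2) (hW.le a.2.2)⟩
  have hinj : Function.Injective f := by
    rintro ⟨p, w⟩ ⟨q, v⟩ h
    have h' : (p : G) * w = q * v := congrArg Subtype.val h
    have h1 : (q : G)⁻¹ * p = v * (w : G)⁻¹ := by
      calc (q : G)⁻¹ * p = (q : G)⁻¹ * ((p : G) * w) * (w : G)⁻¹ := by group
        _ = v * (w : G)⁻¹ := by rw [h']; group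
    have h2 := W_inter hG hW (h1 ▸ mul_mem v.2 (inv_mem w.2)) (mul_mem (inv_mem q.2) p.2)
    have hp : p = q := Subtype.ext (inv_mul_eq_one.1 h2).symm
    subst hp
    exact Prod.ext rfl (Subtype.ext (mul_left_cancel h'))
  have hsurj := ((Nat.bijective_iff_injective_and_card f).2 ⟨hinj, by
    rw [Nat.card_prod, card_sylow_three hG P, hW.card, (card_Nm hG P).2]⟩).2
  obtain ⟨⟨p, w⟩, h⟩ := hsurj ⟨n, hn⟩
  exact ⟨p, p.2, w, w.2, (congrArg Subtype.val h).symm⟩

theorem W_transitive {P : Sylow 3 G} {W : Subgroup G} (hW : IsW P W) {u v : G}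
    (hu : u ∈ (P : Subgroup G)) (hu1 : u ≠ 1) (hv : v ∈ (P : Subgroup G)) (hv1 : v ≠ 1) :
    ∃ w ∈ W, w * u * w⁻¹ = v := by
  obtain ⟨g, hg⟩ := isConj_iff.1
    (three_conj hG (orderOf_three hG P hu hu1) (orderOf_three hG P hv hv1))
  have hgN : g ∈ Nm P := by
    rw [mem_Nm_iff]
    refine ti hG (x := v) ?_ hv hv1
    rw [← hg]
    exact conj_mem_smul hu g
  obtain ⟨p, hp, w, hw, rfl⟩ := exists_mul hG hW hgN
  refine ⟨w, hw, ?_⟩
  have hwu := conj_mem_of_Nm (hW.le hw) hu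
  rw [← hg]
  calc w * u * w⁻¹ = p * (w * u * w⁻¹) * p⁻¹ :=
        (mul_inv_eq_of_eq_mul (sylow_comm hG P hp hwu).eq).symm
    _ = p * w * u * (p * w)⁻¹ := by group

/-- The stabilizer in `W` of a nonidentity element of `P` has order two. -/
theorem W_stab {P : Sylow 3 G} {W : Subgroup G} (hW : IsW P W) {u : G}
    (hu : u ∈ (P : Subgroup G)) (hu1 : u ≠ 1) :
    ∃ t ∈ W, orderOf t = 2 ∧ Commute t u ∧ ∀ s ∈ W, Commute s u → s = 1 ∨ s = t := by
  classical
  have hu3 := orderOf_three hG P hu hu1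
  obtain ⟨i, hi, hic⟩ := exists_involution_commute hG hu3
  obtain ⟨p, hp, w, hw, rfl⟩ := exists_mul hG hW (Cn_le_Nm hG P hu3 hu (mem_Cn.2 hic))
  have hwu : Commute w u := by
    have h := (sylow_comm hG P (inv_mem hp) hu).mul_left hic
    rwa [inv_mul_cancel_left] at h
  have hd : Nat.card (W ⊓ Cn u : Subgroup G) ∣ 2 := by
    have h1 := Subgroup.card_dvd_of_le (inf_le_left : W ⊓ Cn u ≤ W)
    have h2 := Subgroup.card_dvd_of_le (inf_le_right : W ⊓ Cn u ≤ Cn u)
    rw [hW.card] at h1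
    rw [three_centralizer hG hu3] at h2
    simpa using Nat.dvd_gcd h1 h2
  have hw1 : w ≠ 1 := by
    rintro rfl
    rw [mul_one] at hi
    have := Subgroup.orderOf_dvd_natCard _ hp
    rw [hi, card_sylow_three hG P] at this
    norm_num at this
  have hw2 : orderOf w = 2 := by
    have h := (Subgroup.orderOf_dvd_natCard _
      (show w ∈ W ⊓ Cn u from ⟨hw, mem_Cn.2 hwu⟩)).trans hd
    rcases (Nat.dvd_prime Nat.prime_two).1 h with h' | h'
    · exact absurd (orderOf_eq_one_iff.1 h') hw1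
    · exact h'
  refine ⟨w, hw, hw2, hwu, fun s hs hsu => ?_⟩
  by_contra hne
  push Not at hne
  have h3 : 3 ≤ Nat.card (W ⊓ Cn u : Subgroup G) := by
    rw [Nat.card_eq_fintype_card]
    refine le_trans (le_of_eq ?_) (Finset.card_le_univ
      ({1, ⟨w, hw, mem_Cn.2 hwu⟩, ⟨s, hs, mem_Cn.2 hsu⟩} : Finset (W ⊓ Cn u : Subgroup G)))
    rw [Finset.card_insert_of_notMem, Finset.card_pair]
    · exact fun h => hne.2 (congrArg Subtype.val h).symm
    · simp only [Finset.mem_insert, Finset.mem_singleton, not_or]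
      exact ⟨fun h => hw1 (congrArg Subtype.val h).symm,
        fun h => hne.1 (congrArg Subtype.val h).symm⟩
  have := Nat.le_of_dvd (by norm_num) hd
  omega

theorem fpf_or_refl {P : Sylow 3 G} {i : G} (hi : orderOf i = 2) (hN : i ∈ Nm P) :
    Fpf P i ∨ ∃ u ∈ (P : Subgroup G), u ≠ 1 ∧ Commute i u := by
  by_cases h : ∃ u ∈ (P : Subgroup G), u ≠ 1 ∧ Commute i u
  · exact Or.inr h
  · exact Or.inl ⟨hi, hN, fun x hx hc => by_contra fun hx1 => h ⟨x, hx, hx1, hc⟩⟩

theorem exists_W (P : Sylow 3 G) {L : Subgroup G} (hL : L ≤ Nm P) (h2 : IsPGroup 2 L) :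
    ∃ W : Subgroup G, IsW P W ∧ L ≤ W := by
  haveI : Fact (Nat.Prime 2) := ⟨Nat.prime_two⟩
  have h2' : IsPGroup 2 (L.subgroupOf (Nm P)) :=
    IsPGroup.comap_of_injective h2 (Nm P).subtype Subtype.coe_injective
  obtain ⟨S, hS⟩ := h2'.exists_le_sylow
  refine ⟨(S : Subgroup (Nm P)).map (Nm P).subtype, ⟨Subgroup.map_subtype_le _, ?_⟩, fun g hg => ?_⟩
  · rw [Subgroup.card_map_of_injective Subtype.coe_injective, S.card_eq_multiplicity,
      (card_Nm hG P).2, show (144 : ℕ) = 2 ^ 4 * 9 by norm_num,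
      Nat.factorization_mul (by norm_num) (by norm_num), Finsupp.add_apply,
      Nat.Prime.factorization_pow Nat.prime_two, Finsupp.single_eq_same,
      Nat.factorization_eq_zero_of_not_dvd (by norm_num)]
    norm_num
  · exact ⟨⟨g, hL hg⟩, hS (Subgroup.mem_subgroupOf.2 hg), rfl⟩

/-- The fixed-point-free involution of `W`. -/
theorem W_center {P : Sylow 3 G} {W : Subgroup G} (hW : IsW P W) :
    ∃ z ∈ W, Fpf P z ∧ (∀ w ∈ W, Commute w z) ∧ ∀ i ∈ W, Fpf P i → i = z := by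
  haveI : Fact (Nat.Prime 2) := ⟨Nat.prime_two⟩
  have h2 := two_pow_of_W hW.card
  haveI : Nontrivial W := Finite.one_lt_card_iff_nontrivial.1 (by rw [hW.card]; norm_num)
  haveI := h2.center_nontrivial
  obtain ⟨x, hx⟩ := exists_prime_orderOf_dvd_card' 2
    (show 2 ∣ Nat.card (Subgroup.center W) from
      ((h2.to_subgroup _).exists_card_eq).elim fun n hn => by
        rcases n with _ | n
        · have := Finite.one_lt_card (α := Subgroup.center W)
          rw [hn] at this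
          norm_num at this
        · rw [hn, pow_succ]; exact dvd_mul_left _ _)
  obtain ⟨z, hz⟩ : ∃ z : G, z = ((x : W) : G) := ⟨_, rfl⟩
  have hzo : orderOf z = 2 := by rw [hz, Subgroup.orderOf_coe, Subgroup.orderOf_coe, hx]
  have hzW : z ∈ W := hz ▸ (x : W).2
  have hzc : ∀ w ∈ W, Commute w z := fun w hw => by
    rw [hz]; exact congrArg Subtype.val (Subgroup.mem_center_iff.1 x.2 ⟨w, hw⟩)
  have hfpf : Fpf P z := by
    refine ⟨hzo, hW.le hzW, fun u hu hc => by_contra fun hu1 => not_commute_nine hG hzo P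
      fun v hv => ?_⟩
    by_cases hv1 : v = 1
    · rw [hv1]; exact Commute.one_right z
    obtain ⟨w, hw, rfl⟩ := W_transitive hG hW hu hu1 hv hv1
    have h1 := (hzc w hw).symm
    exact ((h1.mul_right hc).mul_right h1.inv_right)
  refine ⟨z, hzW, hfpf, hzc, fun i hi hif => ?_⟩
  have h := W_inter hG hW (mul_mem hi hzW) (fpf_mul_mem hG hfpf hif)
  have hzz : z * z = 1 := by rw [← pow_two, ← hzo, pow_orderOf_eq_one]
  calc i = i * z * z := by rw [mul_assoc, hzz, mul_one]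
    _ = z := by rw [h, one_mul]

/-- A two-group of `N(P)` containing a fixed-point-free involution centralizes it. -/
theorem le_Cn {P : Sylow 3 G} {L : Subgroup G} (hL : L ≤ Nm P) (h2 : IsPGroup 2 L) {z : G}
    (hzL : z ∈ L) (hz : Fpf P z) : L ≤ Cn z := by
  obtain ⟨W, hW, hLW⟩ := exists_W hG P hL h2
  obtain ⟨z', -, -, hc, huniq⟩ := W_center hG hW
  obtain rfl := huniq z (hLW hzL) hz
  exact fun w hw => mem_Cn.2 (hc w (hLW hw))

theorem two_group_of_noThree {L : Subgroup G} (hd : Nat.card L ∣ 144)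
    (h3 : ∀ g ∈ L, orderOf g ≠ 3) : IsPGroup 2 L := by
  have hn3 : ¬ 3 ∣ Nat.card L := fun h => by
    obtain ⟨g, hg⟩ := exists_prime_orderOf_dvd_card' 3 h
    exact h3 g g.2 (by rw [Subgroup.orderOf_coe]; exact hg)
  have hcop : (Nat.card L).Coprime 9 := by
    rw [show (9 : ℕ) = 3 ^ 2 by norm_num]
    exact ((Nat.prime_three.coprime_iff_not_dvd.2 hn3).symm).pow_right 2
  have h16 : Nat.card L ∣ 16 := hcop.dvd_of_dvd_mul_right (show Nat.card L ∣ 16 * 9 by simpa)
  obtain ⟨k, -, hk⟩ := (Nat.dvd_prime_pow Nat.prime_two (m := 4)).1 (by simpa using h16)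
  exact IsPGroup.of_card (p := 2) (n := k) hk

/-- `N(P) ∩ C(z)` for a fixed-point-free involution. -/
theorem isW_inf {P : Sylow 3 G} {z : G} (hz : Fpf P z) : IsW P (Nm P ⊓ Cn z) := by
  refine ⟨inf_le_left, ?_⟩
  have h2 : IsPGroup 2 (Subgroup.zpowers z) :=
    IsPGroup.of_card (p := 2) (n := 1) (by rw [Nat.card_zpowers, hz.1, pow_one])
  obtain ⟨W, hW, hzW⟩ := exists_W hG P (Subgroup.zpowers_le.2 hz.2.1) h2
  have hle : W ≤ Nm P ⊓ Cn z := le_inf hW.le
    (le_Cn hG hW.le (two_pow_of_W hW.card) (hzW (Subgroup.mem_zpowers z)) hz)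
  have h16 := Subgroup.card_dvd_of_le hle
  rw [hW.card] at h16
  have hd : Nat.card (Nm P ⊓ Cn z : Subgroup G) ∣ 144 := by
    rw [← (card_Nm hG P).2]; exact Subgroup.card_dvd_of_le inf_le_left
  obtain ⟨k, hk⟩ := (two_group_of_noThree hG hd fun g hg h3 => by
    have hgP := mem_of_Nm hG h3 hg.1
    have := hz.2.2 g hgP (mem_Cn.1 hg.2).symm
    rw [this, orderOf_one] at h3
    omega).exists_card_eq
  rw [hk] at hd h16
  have hk4 : k = 4 := by
    have h1 : k ≤ 4 := by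
      have h := ((Nat.Prime.pow_dvd_iff_le_factorization Nat.prime_two (by norm_num)).1 hd)
      rwa [show (144 : ℕ) = 2 ^ 4 * 9 by norm_num, Nat.factorization_mul (by norm_num) (by norm_num),
        Finsupp.add_apply, Nat.Prime.factorization_pow Nat.prime_two, Finsupp.single_eq_same,
        Nat.factorization_eq_zero_of_not_dvd (by norm_num), add_zero] at h
    have h2 := Nat.le_of_dvd (by positivity) h16
    interval_cases k <;> norm_num at h2
    rfl
  rw [hk, hk4]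
  norm_num

/-- The reflections in `W`. -/
theorem refl_data {P : Sylow 3 G} {W : Subgroup G} (hW : IsW P W) {z : G} (hzW : z ∈ W)
    (hz : Fpf P z) :
    Nat.card {t : G // t ∈ W ∧ orderOf t = 2 ∧ t ≠ z} = 4 ∧
      (∀ s t : G, (s ∈ W ∧ orderOf s = 2 ∧ s ≠ z) → (t ∈ W ∧ orderOf t = 2 ∧ t ≠ z) →
        ∃ w ∈ W, w * s * w⁻¹ = t) ∧
      ∀ t : G, t ∈ W → orderOf t = 2 → t ≠ z → Nat.card (W ⊓ Cn t : Subgroup G) = 4 := by
  classical
  obtain ⟨z', -, -, hc, huniq⟩ := W_center hG hW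
  obtain rfl := huniq z hzW hz
  choose! t htW ht2 htu htuniq using fun u (hu : u ∈ (P : Subgroup G) ∧ u ≠ 1) =>
    W_stab hG hW hu.1 hu.2
  have htz : ∀ u, u ∈ (P : Subgroup G) ∧ u ≠ 1 → t u ≠ z := fun u hu h =>
    hu.2 (hz.2.2 u hu.1 (h ▸ htu u hu))
  have hsurj : ∀ s, s ∈ W → orderOf s = 2 → s ≠ z →
      ∃ u, (u ∈ (P : Subgroup G) ∧ u ≠ 1) ∧ t u = s := fun s hs hs2 hsz => by
    rcases fpf_or_refl hG hs2 (hW.le hs) with h | ⟨u, hu, hu1, hcu⟩
    · exact absurd (huniq s hs h) hsz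
    · refine ⟨u, ⟨hu, hu1⟩, ?_⟩
      rcases htuniq u ⟨hu, hu1⟩ s hs hcu with h | h
      · rw [h, orderOf_one] at hs2; omega
      · exact h.symm
  have htconj : ∀ u w, (u ∈ (P : Subgroup G) ∧ u ≠ 1) → w ∈ W →
      (w * u * w⁻¹ ∈ (P : Subgroup G) ∧ w * u * w⁻¹ ≠ 1) ∧ t (w * u * w⁻¹) = w * t u * w⁻¹ := by
    intro u w hu hw
    have h1 : w * u * w⁻¹ ∈ (P : Subgroup G) ∧ w * u * w⁻¹ ≠ 1 :=
      ⟨conj_mem_of_Nm (hW.le hw) hu.1, fun h => hu.2 (by
        have : u = w⁻¹ * (w * u * w⁻¹) * w := by group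
        rw [this, h]; group)⟩
    refine ⟨h1, ?_⟩
    have h2 : Commute (w * t u * w⁻¹) (w * u * w⁻¹) := (Commute.conj_iff w).2 (htu u hu)
    rcases htuniq _ h1 _ (mul_mem (mul_mem hw (htW u hu)) (inv_mem hw)) h2 with h | h
    · exfalso
      have h3 : orderOf (w * t u * w⁻¹) = 2 :=
        ((MulAut.conj w).orderOf_eq (t u)).trans (ht2 u hu)
      rw [h, orderOf_one] at h3
      omega
    · exact h.symm
  -- each reflection fixes exactly two nonidentity elements
  have hfib : ∀ s, s ∈ W → orderOf s = 2 → s ≠ z →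
      Nat.card {u : G // (u ∈ (P : Subgroup G) ∧ u ≠ 1) ∧ t u = s} = 2 := by
    intro s hs hs2 hsz
    obtain ⟨u₀, hu₀, hu₀s⟩ := hsurj s hs hs2 hsz
    have hu3 := orderOf_three hG P hu₀.1 hu₀.2
    obtain ⟨C, hC⟩ : ∃ C : Subgroup G, C = (P : Subgroup G) ⊓ Cn s := ⟨_, rfl⟩
    have hu₀C : u₀ ∈ C := hC ▸ ⟨hu₀.1, mem_Cn.2 (hu₀s ▸ htu u₀ hu₀).symm⟩
    have hCle : Nat.card C ∣ 9 := by
      rw [← card_sylow_three hG P, hC]; exact Subgroup.card_dvd_of_le inf_le_left
    have hC3 : Nat.card C = 3 := by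
      obtain ⟨k, hk, hk'⟩ := (Nat.dvd_prime_pow Nat.prime_three (m := 2)).1
        (show Nat.card C ∣ 3 ^ 2 from hCle)
      have hd := Subgroup.orderOf_dvd_natCard _ hu₀C
      rw [hu3, hk'] at hd
      interval_cases k
      · norm_num at hd
      · simpa using hk'
      · exfalso
        have hP : (P : Subgroup G) ≤ Cn s := by
          have he : C = (P : Subgroup G) := Subgroup.eq_of_le_of_card_ge (hC ▸ inf_le_left)
            (by rw [hk', card_sylow_three hG P]; norm_num)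
          rw [hC] at he
          exact inf_eq_left.1 he
        exact not_commute_nine hG hs2 P fun x hx => (mem_Cn.1 (hP hx)).symm
    let e : {u : G // (u ∈ (P : Subgroup G) ∧ u ≠ 1) ∧ t u = s} ≃ {c : C // c ≠ 1} :=
      { toFun := fun u => ⟨⟨u.1, hC ▸ ⟨u.2.1.1, mem_Cn.2 (u.2.2 ▸ htu u.1 u.2.1).symm⟩⟩,
          fun h => u.2.1.2 (congrArg Subtype.val h)⟩
        invFun := fun c => ⟨c.1.1, ⟨(hC.le c.1.2).1, fun h => c.2 (Subtype.ext h)⟩, by
          have hu : c.1.1 ∈ (P : Subgroup G) ∧ c.1.1 ≠ 1 :=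
            ⟨(hC.le c.1.2).1, fun h => c.2 (Subtype.ext h)⟩
          rcases htuniq _ hu s hs (mem_Cn.1 (hC.le c.1.2).2).symm with h | h
          · rw [h, orderOf_one] at hs2; omega
          · exact h.symm⟩
        left_inv := fun u => rfl
        right_inv := fun c => rfl }
    rw [Nat.card_congr e, Nat.card_eq_fintype_card, Fintype.card_subtype_compl,
      Fintype.card_subtype_eq, ← Nat.card_eq_fintype_card, hC3]
  have hT4 : Nat.card {t : G // t ∈ W ∧ orderOf t = 2 ∧ t ≠ z} = 4 := by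
    let e : (Σ s : {t : G // t ∈ W ∧ orderOf t = 2 ∧ t ≠ z},
        {u : G // (u ∈ (P : Subgroup G) ∧ u ≠ 1) ∧ t u = s.1}) ≃
        {x : (P : Subgroup G) // x ≠ 1} :=
      { toFun := fun a => ⟨⟨a.2.1, a.2.2.1.1⟩, fun h => a.2.2.1.2 (congrArg Subtype.val h)⟩
        invFun := fun x => ⟨⟨t x.1.1, htW _ ⟨x.1.2, fun h => x.2 (Subtype.ext h)⟩,
          ht2 _ ⟨x.1.2, fun h => x.2 (Subtype.ext h)⟩, htz _ ⟨x.1.2, fun h => x.2 (Subtype.ext h)⟩⟩,
          ⟨x.1.1, ⟨x.1.2, fun h => x.2 (Subtype.ext h)⟩, rfl⟩⟩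
        left_inv := by
          rintro ⟨⟨s, hs⟩, ⟨u, hu, hus⟩⟩
          dsimp only at hus
          subst hus
          rfl
        right_inv := fun x => rfl }
    have h := Nat.card_congr e
    rw [Nat.card_sigma, Finset.sum_congr rfl (g := fun _ => 2) fun s _ => hfib s.1 s.2.1 s.2.2.1 s.2.2.2,
      Finset.sum_const, Finset.card_univ, smul_eq_mul] at h
    have h8 : Nat.card {x : (P : Subgroup G) // x ≠ 1} = 8 := by
      rw [Nat.card_eq_fintype_card, Fintype.card_subtype_compl, Fintype.card_subtype_eq,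
        ← Nat.card_eq_fintype_card, card_sylow_three hG P]
    rw [h8] at h
    rw [Nat.card_eq_fintype_card]
    omega
  have htrans : ∀ s t' : G, (s ∈ W ∧ orderOf s = 2 ∧ s ≠ z) → (t' ∈ W ∧ orderOf t' = 2 ∧ t' ≠ z) →
      ∃ w ∈ W, w * s * w⁻¹ = t' := by
    rintro s t' ⟨hs, hs2, hsz⟩ ⟨ht', ht'2, ht'z⟩
    obtain ⟨u, hu, rfl⟩ := hsurj s hs hs2 hsz
    obtain ⟨v, hv, rfl⟩ := hsurj t' ht' ht'2 ht'z
    obtain ⟨w, hw, rfl⟩ := W_transitive hG hW hu.1 hu.2 hv.1 hv.2
    exact ⟨w, hw, ((htconj u w hu hw).2).symm⟩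
  refine ⟨hT4, htrans, fun s hs hs2 hsz => ?_⟩
  -- orbit-stabilizer
  have h1 : Nat.card (MulAction.orbit (ConjAct W) (⟨s, hs⟩ : W)) = 4 := by
    rw [← hT4]
    refine Nat.card_congr
      { toFun := fun a => ⟨(a.1 : G), a.1.2, ?_⟩
        invFun := fun a => ⟨⟨a.1, a.2.1⟩, ?_⟩
        left_inv := fun a => rfl
        right_inv := fun a => rfl }
    · obtain ⟨g, hg⟩ := a.2
      have hg' : (a.1 : G) = ((ConjAct.ofConjAct g : W) : G) * s *
          ((ConjAct.ofConjAct g : W) : G)⁻¹ := by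
        rw [← hg]; rfl
      rw [hg']
      refine ⟨((MulAut.conj _).orderOf_eq s).trans hs2, fun h => hsz ?_⟩
      have h' := (hc _ (ConjAct.ofConjAct g : W).2).eq
      calc s = ((ConjAct.ofConjAct g : W) : G)⁻¹ * z * ((ConjAct.ofConjAct g : W) : G) := by
            rw [← h]; group
        _ = z := by rw [mul_assoc, ← h', inv_mul_cancel_left]
    · obtain ⟨w, hw, hwa⟩ := htrans s a.1 ⟨hs, hs2, hsz⟩ a.2
      exact ⟨ConjAct.toConjAct (⟨w, hw⟩ : W), Subtype.ext hwa⟩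
  have h2 := MulAction.index_stabilizer (ConjAct W) (⟨s, hs⟩ : W)
  rw [← Nat.card_coe_set_eq, h1] at h2
  have h3 := Subgroup.card_mul_index (MulAction.stabilizer (ConjAct W) (⟨s, hs⟩ : W))
  rw [h2, Nat.card_congr ConjAct.ofConjAct.toEquiv, hW.card] at h3
  have h4 : Nat.card (MulAction.stabilizer (ConjAct W) (⟨s, hs⟩ : W)) =
      Nat.card (W ⊓ Cn s : Subgroup G) := by
    refine Nat.card_congr
      { toFun := fun a => ⟨((ConjAct.ofConjAct a.1 : W) : G), (ConjAct.ofConjAct a.1 : W).2, ?_⟩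
        invFun := fun a => ⟨ConjAct.toConjAct (⟨a.1, a.2.1⟩ : W), ?_⟩
        left_inv := fun a => rfl
        right_inv := fun a => rfl }
    · have h := congrArg Subtype.val a.2
      exact mem_Cn.2 (mul_inv_eq_iff_eq_mul.1 h)
    · exact Subtype.ext (mul_inv_eq_iff_eq_mul.2 (mem_Cn.1 a.2.2).eq)
  omega

/-- The centralizer in `N(P)` of a reflection. -/
theorem card_Cn_refl {P : Sylow 3 G} {s u : G} (hs : orderOf s = 2) (hsN : s ∈ Nm P)
    (hu : u ∈ (P : Subgroup G)) (hu1 : u ≠ 1) (hsu : Commute s u) :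
    Nat.card (Nm P ⊓ Cn s : Subgroup G) = 12 := by
  haveI : Fact (Nat.Prime 2) := ⟨Nat.prime_two⟩
  have hd : Nat.card (Nm P ⊓ Cn s : Subgroup G) ∣ 48 := by
    rw [← (inv_data hG).1 s hs]; exact Subgroup.card_dvd_of_le inf_le_right
  have h3 : 3 ∣ Nat.card (Nm P ⊓ Cn s : Subgroup G) := by
    rw [← orderOf_three hG P hu hu1]
    exact Subgroup.orderOf_dvd_natCard _ ⟨Subgroup.le_normalizer hu, mem_Cn.2 hsu.symm⟩
  have h2 : IsPGroup 2 (Subgroup.zpowers s) :=
    IsPGroup.of_card (p := 2) (n := 1) (by rw [Nat.card_zpowers, hs, pow_one])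
  obtain ⟨W, hW, hsW'⟩ := exists_W hG P (Subgroup.zpowers_le.2 hsN) h2
  obtain ⟨z, hzW, hz, hcz, -⟩ := W_center hG hW
  have hsW : s ∈ W := hsW' (Subgroup.mem_zpowers s)
  have hsz : s ≠ z := fun h => hu1 (hz.2.2 u hu (h ▸ hsu))
  have h4 : 4 ∣ Nat.card (Nm P ⊓ Cn s : Subgroup G) := by
    rw [← (refl_data hG hW hzW hz).2.2 s hsW hs hsz]
    exact Subgroup.card_dvd_of_le (inf_le_inf_right _ hW.le)
  have h8 : ¬ 8 ∣ Nat.card (Nm P ⊓ Cn s : Subgroup G) := by
    intro h8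
    obtain ⟨S, hS⟩ := Sylow.exists_subgroup_card_pow_prime (G := (Nm P ⊓ Cn s : Subgroup G)) 2
      (n := 3) (by simpa using h8)
    obtain ⟨L, hL⟩ : ∃ L : Subgroup G, L = S.map (Nm P ⊓ Cn s).subtype ⊔ Subgroup.zpowers s :=
      ⟨_, rfl⟩
    have hS2 : IsPGroup 2 (S.map (Nm P ⊓ Cn s).subtype) :=
      IsPGroup.of_card (p := 2) (n := 3)
        (by rw [Subgroup.card_map_of_injective Subtype.coe_injective, hS])
    have hSle : S.map (Nm P ⊓ Cn s).subtype ≤ Nm P ⊓ Cn s := Subgroup.map_subtype_le _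
    have hnorm : Subgroup.zpowers s ≤
        Subgroup.normalizer ((S.map (Nm P ⊓ Cn s).subtype : Subgroup G) : Set G) := by
      refine le_trans ?_ (Subgroup.centralizer_le_normalizer _)
      rw [Subgroup.zpowers_le]
      exact Subgroup.mem_centralizer_iff.2 fun g hg => (mem_Cn.1 (hSle hg).2).eq
    have hL2 : IsPGroup 2 L := hL ▸ hS2.to_sup_of_normal_left' h2 hnorm
    have hLN : L ≤ Nm P :=
      hL ▸ sup_le (le_trans hSle inf_le_left) (Subgroup.zpowers_le.2 hsN)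
    obtain ⟨W', hW', hLW'⟩ := exists_W hG P hLN hL2
    obtain ⟨z', hzW', hz', -, -⟩ := W_center hG hW'
    have hsW'' : s ∈ W' := hLW' (hL ▸ Subgroup.mem_sup_right (Subgroup.mem_zpowers s))
    have hsz' : s ≠ z' := fun h => hu1 (hz'.2.2 u hu (h ▸ hsu))
    have h44 := (refl_data hG hW' hzW' hz').2.2 s hsW'' hs hsz'
    have hle : S.map (Nm P ⊓ Cn s).subtype ≤ W' ⊓ Cn s :=
      le_inf (le_trans (hL ▸ le_sup_left) hLW') (le_trans hSle inf_le_right)
    have := Subgroup.card_dvd_of_le hle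
    rw [Subgroup.card_map_of_injective Subtype.coe_injective, hS, h44] at this
    norm_num at this
  obtain ⟨k, hk⟩ := Nat.Coprime.mul_dvd_of_dvd_of_dvd (by norm_num : Nat.Coprime 3 4) h3 h4
  have hle48 := Nat.le_of_dvd (by norm_num) hd
  have hpos : 0 < Nat.card (Nm P ⊓ Cn s : Subgroup G) := Nat.card_pos
  have : k ≤ 4 := by omega
  rw [hk] at hd h8 hpos ⊢
  interval_cases k <;> norm_num at *

end Cfsg.Agent.Fg24.M11
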