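import Cfsg.Agent.S4429
import Cfsg.Agent.Char.FS
import Cfsg.Agent.Char.Artin
import Cfsg.Agent.Char.Perm
import Cfsg.Agent.Char.Ortho

/-!
# A simple group of order 7920: the ten characters and two linear relations between them
-/

set_option autoImplicit false
set_option linter.unusedSectionVars false

open Cfsg

namespace Cfsg.Agent.Fg24.M11

open scoped ComplexConjugate
open Cfsg.Agent Cfsg.Agent.Blocks

universe u

variable {G : Type u} [Group G] [Fintype G]

/-- The degree of an irreducible character. -/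
noncomputable abbrev deg (χ : Cfsg.IrrCharacter G) : ℕ := Cfsg.charDegree (χ : G → ℂ)

theorem value_one (χ : Cfsg.IrrCharacter G) : (χ : G → ℂ) 1 = (deg χ : ℂ) :=
  (charDegree_cast (Char.IsIrr.isCharacter χ.2)).symm

/-- The characters of a simple group of order 7920. -/
structure Table (G : Type u) [Group G] [Fintype G] where
  T : Finset (Cfsg.IrrCharacter G)
  Y : Finset (Cfsg.IrrCharacter G)
  φ : Cfsg.IrrCharacter G
  a : Cfsg.IrrCharacter G
  b : Cfsg.IrrCharacter G
  c : Cfsg.IrrCharacter G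
  cardT : T.card = 3
  cardY : Y.card = 2
  degT : ∀ χ ∈ T, deg χ = 10
  degY : ∀ χ ∈ Y, deg χ = 16
  degφ : deg φ = 45
  dega : deg a = 11
  degb : deg b = 44
  degc : deg c = 55
  uniqa : ∀ χ, deg χ = 11 → χ = a
  uniqb : ∀ χ, deg χ = 44 → χ = b
  uniqc : ∀ χ, deg χ = 55 → χ = c
  uniqφ : ∀ χ, deg χ = 45 → χ = φ
  split : ∀ f : Cfsg.IrrCharacter G → ℂ, ∑ χ, f χ =
    f (triv G) + ∑ χ ∈ T, f χ + f φ + ∑ χ ∈ Y, f χ + f a + f b + f c
  rel11 : ∀ θ ∈ Y, ∀ g : G, ¬ 11 ∣ orderOf g →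
    (θ : G → ℂ) g = 1 - ∑ χ ∈ T, (χ : G → ℂ) g + (φ : G → ℂ) g
  rel5 : ∀ g : G, ¬ 5 ∣ orderOf g →
    1 + (a : G → ℂ) g + ∑ θ ∈ Y, (θ : G → ℂ) g - (b : G → ℂ) g = 0

variable [IsSimpleGroup G] (hG : Nat.card G = 7920)
include hG

theorem deg_count (n : ℕ) : Nat.card {χ : Cfsg.IrrCharacter G // deg χ = n} =
    (if n = 1 ∨ n = 11 ∨ n = 44 ∨ n = 45 ∨ n = 55 then 1
      else if n = 10 then 3 else if n = 16 then 2 else 0) :=
  (S4429.result hG).2 n

theorem deg_unique {n : ℕ} (hn : n = 1 ∨ n = 11 ∨ n = 44 ∨ n = 45 ∨ n = 55) :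
    ∃ χ : Cfsg.IrrCharacter G, deg χ = n ∧ ∀ ψ, deg ψ = n → ψ = χ := by
  have h := deg_count hG n
  rw [if_pos hn] at h
  obtain ⟨hs, ⟨x⟩⟩ := Nat.card_eq_one_iff_unique.1 h
  exact ⟨x.1, x.2, fun ψ hψ => congrArg Subtype.val (@Subsingleton.elim _ hs ⟨ψ, hψ⟩ x)⟩

theorem exists_table : Nonempty (Table G) := by
  classical
  have : Fact (Nat.Prime 11) := ⟨by norm_num⟩
  have : Fact (Nat.Prime 5) := ⟨by norm_num⟩
  obtain ⟨a, ha, hau⟩ := deg_unique hG (n := 11) (by norm_num)
  obtain ⟨b, hb, hbu⟩ := deg_unique hG (n := 44) (by norm_num)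
  obtain ⟨c, hc, hcu⟩ := deg_unique hG (n := 55) (by norm_num)
  obtain ⟨f45, hf45, hf45u⟩ := deg_unique hG (n := 45) (by norm_num)
  obtain ⟨y, Y, hY2, hYd, ⟨rfl, -, χ, hχ⟩ | ⟨rfl, T, φ, hT, hTd, hφ, hcov, hrel⟩⟩ :=
    S4429.pattern11 hG
  · exfalso
    have h := deg_count hG 12
    rw [if_neg (by norm_num), if_neg (by norm_num), if_neg (by norm_num)] at h
    haveI : Nonempty {ψ : Cfsg.IrrCharacter G // deg ψ = 12} := ⟨⟨χ, hχ⟩⟩
    have := Nat.card_pos (α := {ψ : Cfsg.IrrCharacter G // deg ψ = 12})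
    omega
  have htd : deg (triv G) = 1 := charDegree_eq (by show (1 : ℂ) = _; simp)
  have hall : ∀ χ : Cfsg.IrrCharacter G, deg χ ∈ ({1, 10, 11, 16, 44, 45, 55} : Finset ℕ) := by
    intro χ
    by_contra hn
    simp only [Finset.mem_insert, Finset.mem_singleton, not_or] at hn
    have h := deg_count hG (deg χ)
    rw [if_neg (by omega), if_neg (by omega), if_neg (by omega)] at h
    haveI : Nonempty {ψ : Cfsg.IrrCharacter G // deg ψ = deg χ} := ⟨⟨χ, rfl⟩⟩
    have := Nat.card_pos (α := {ψ : Cfsg.IrrCharacter G // deg ψ = deg χ})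
    omega
  have hφu : ∀ χ, deg χ = 45 → χ = φ := fun χ h => (hf45u χ h).trans (hf45u φ hφ).symm
  have hsplit : ∀ f : Cfsg.IrrCharacter G → ℂ, ∑ χ, f χ =
      f (triv G) + ∑ χ ∈ T, f χ + f φ + ∑ χ ∈ Y, f χ + f a + f b + f c := by
    intro f
    have hu : (Finset.univ : Finset (Cfsg.IrrCharacter G)) =
        insert (triv G) (insert φ (insert a (insert b (insert c (T ∪ Y))))) := by
      refine (Finset.eq_univ_of_forall fun χ => ?_).symm
      simp only [Finset.mem_insert, Finset.mem_union]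
      by_cases h11 : 11 ∣ deg χ
      · have h := hall χ
        simp only [Finset.mem_insert, Finset.mem_singleton] at h
        rcases h with h | h | h | h | h | h | h <;> rw [h] at h11 <;> norm_num at h11
        · exact Or.inr (Or.inr (Or.inl (hau χ h)))
        · exact Or.inr (Or.inr (Or.inr (Or.inl (hbu χ h))))
        · exact Or.inr (Or.inr (Or.inr (Or.inr (Or.inl (hcu χ h)))))
      · rcases hcov χ h11 with h | h | h | h
        · exact Or.inl h
        · exact Or.inr (Or.inr (Or.inr (Or.inr (Or.inr (Or.inl h)))))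
        · exact Or.inr (Or.inl h)
        · exact Or.inr (Or.inr (Or.inr (Or.inr (Or.inr (Or.inr h)))))
    have hTY : Disjoint T Y := Finset.disjoint_left.2 fun χ h1 h2 => by
      have e1 := hTd χ h1
      have e2 := hYd χ h2
      omega
    have hnotin : ∀ χ : Cfsg.IrrCharacter G, deg χ ≠ 10 → deg χ ≠ 16 → χ ∉ T ∪ Y := by
      intro χ h1 h2 h
      rcases Finset.mem_union.1 h with h | h
      · exact h1 (hTd χ h)
      · exact h2 (hYd χ h)
    have hne : ∀ {χ ψ : Cfsg.IrrCharacter G}, deg χ ≠ deg ψ → χ ≠ ψ := fun h e => h (e ▸ rfl)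
    rw [hu, Finset.sum_insert, Finset.sum_insert, Finset.sum_insert, Finset.sum_insert,
      Finset.sum_insert, Finset.sum_union hTY]
    · ring
    all_goals try simp only [Finset.mem_insert, not_or]
    all_goals repeat' apply And.intro
    all_goals first
      | exact hne (by unfold deg at *; omega)
      | exact hnotin _ (by unfold deg at *; omega) (by unfold deg at *; omega)
  have hrel5 : ∀ g : G, ¬ 5 ∣ orderOf g →
      1 + (a : G → ℂ) g + ∑ θ ∈ Y, (θ : G → ℂ) g - (b : G → ℂ) g = 0 := by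
    intro g hg
    obtain ⟨P⟩ : Nonempty (Sylow 5 G) := inferInstance
    obtain ⟨hS, hC⟩ := S4429.five hG P
    obtain ⟨M, hM⟩ := Blocks.exists_isPModular 5 (Fact.out : Nat.Prime 5)
    obtain ⟨X, Y5, s5, s, hdisj, hXc, hYc, hmem, hs, hX, hY, -, hrel'⟩ := hS.principal_structure hM
    have hblock : ∀ χ : Cfsg.IrrCharacter G, χ ∈ X ∪ Y5 ↔ ¬ 5 ∣ deg χ := by
      intro χ
      rw [Finset.mem_union, ← hmem]
      exact ⟨hS.not_dvd_degree hM,
        fun h => by_contra fun h' => h (S4429.dvd_outside hS hC hM h')⟩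
    obtain ⟨θ₀, hθ₀⟩ := Finset.card_eq_one.1 hYc
    have h1 := hrel' θ₀ (hθ₀ ▸ Finset.mem_singleton_self θ₀) g hg
    obtain ⟨σ, hσ⟩ : ∃ σ : Cfsg.IrrCharacter G → ℂ,
        ∀ χ, σ χ = if deg χ % 5 = 0 then 0 else if deg χ % 5 = 1 then 1 else -1 := ⟨_, fun _ => rfl⟩
    have h2 : ∑ χ, σ χ * (χ : G → ℂ) g = 0 := by
      rw [← Finset.sum_subset (Finset.subset_univ (X ∪ Y5)) fun χ _ hχ => by
          rw [hσ, if_pos (Nat.mod_eq_zero_of_dvd (of_not_not fun h => hχ ((hblock χ).2 h))),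
            zero_mul],
        Finset.sum_union hdisj, ← h1, add_comm, hθ₀, Finset.sum_singleton]
      congr 1
      · have hmem₀ : θ₀ ∈ Y5 := hθ₀ ▸ Finset.mem_singleton_self θ₀
        have h5 := (hblock θ₀).1 (Finset.mem_union_right _ hmem₀)
        have h4 := Int.ModEq.eq (hY θ₀ hmem₀)
        rw [hσ]
        rcases hs with rfl | rfl <;> norm_num at h4
        · rw [if_neg (by unfold deg at *; omega), if_pos (by unfold deg at *; omega)]
          simp
        · rw [if_neg (by unfold deg at *; omega), if_neg (by unfold deg at *; omega)]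
          simp
      · refine Finset.sum_congr rfl fun χ hχ => ?_
        obtain ⟨ha', hda, -⟩ := hX χ hχ
        have h5 := (hblock χ).1 (Finset.mem_union_left _ hχ)
        have h4 := Int.ModEq.eq hda
        rw [hσ]
        rcases ha' with ha' | ha' <;> rw [ha'] at h4 ⊢ <;> norm_num at h4
        · rw [if_neg (by unfold deg at *; omega), if_pos (by unfold deg at *; omega)]
          simp
        · rw [if_neg (by unfold deg at *; omega), if_neg (by unfold deg at *; omega)]
          simp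
    rw [hsplit] at h2
    rw [Finset.sum_eq_zero (s := T) fun χ hχ => by
        rw [hσ, if_pos (by rw [show deg χ = 10 from hTd χ hχ]), zero_mul],
      Finset.sum_congr rfl (s₁ := Y) (g := fun θ => (θ : G → ℂ) g) fun χ hχ => by
        rw [hσ, show deg χ = 16 from hYd χ hχ]; norm_num] at h2
    simp only [hσ] at h2
    rw [htd, show deg φ = 45 from hφ, ha, hb, hc] at h2
    norm_num [Blocks.triv] at h2
    linear_combination h2
  exact ⟨⟨T, Y, φ, a, b, c, hT, hY2, hTd, hYd, hφ, ha, hb, hc, hau, hbu, hcu, hφu, hsplit,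
    hrel, hrel5⟩⟩

end Cfsg.Agent.Fg24.M11
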