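import Cfsg.Agent.Fg24.M11.Table

/-!
# A simple group of order 7920: involutions and elements of order three

One class of involutions, centralizers of order 48; one class of elements of order 3, centralizers
of order 18.
-/

set_option autoImplicit false
set_option linter.unusedSectionVars false

open Cfsg

namespace Cfsg.Agent.Fg24.M11

open scoped ComplexConjugate
open Cfsg.Agent Cfsg.Agent.Blocks

universe u

variable {G : Type u} [Group G] [Fintype G]

/-- A primitive cube root of unity. -/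
noncomputable def omega : ℂ := ⟨-1 / 2, Real.sqrt 3 / 2⟩

theorem omega_re : omega.re = -1 / 2 := rfl

theorem omega_im : omega.im = Real.sqrt 3 / 2 := rfl

theorem cube_root {z : ℂ} (h : z ^ 3 = 1) : z = 1 ∨ z = omega ∨ z = conj omega := by
  have h3 : (z - 1) * ((z - omega) * (z - conj omega)) = 0 := by
    have e1 : omega + conj omega = -1 := by
      apply Complex.ext <;> simp [omega] <;> norm_num
    have e2 : omega * conj omega = 1 := by
      apply Complex.ext <;> simp [omega] <;> ring_nf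
      rw [Real.sq_sqrt (by norm_num)]; norm_num
    linear_combination h - (z - 1) * z * e1 + (z - 1) * e2
  rcases mul_eq_zero.1 h3 with h1 | h1
  · exact Or.inl (sub_eq_zero.1 h1)
  rcases mul_eq_zero.1 h1 with h2 | h2
  · exact Or.inr (Or.inl (sub_eq_zero.1 h2))
  · exact Or.inr (Or.inr (sub_eq_zero.1 h2))

/-- The value at an element of order dividing three. -/
theorem three_value (χ : Cfsg.IrrCharacter G) {u : G} (hu : u ^ 3 = 1) :
    ∃ a b c : ℤ, a + b + c = deg χ ∧
      (χ : G → ℂ) u = (a : ℂ) + (b : ℂ) * omega + (c : ℂ) * conj omega := by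
  classical
  let H := Subgroup.zpowers u
  have := Fintype.ofFinite H
  have hχc := Char.IsIrr.isCharacter χ.2
  choose m hm using fun μ : Cfsg.IrrCharacter H =>
    Char.classInner_isCharacter_eq_natCast (Char.isCharacter_res H hχc) (Char.IsIrr.isCharacter μ.2)
  have hexp := Char.classFun_expansion (Char.isClassFunction_of_isCharacter
    (Char.isCharacter_res H hχc))
  obtain ⟨uu, huu⟩ : ∃ uu : H, uu = ⟨u, Subgroup.mem_zpowers u⟩ := ⟨_, rfl⟩
  have hu' : uu ^ 3 = 1 := by rw [huu]; exact Subtype.ext (by simpa using hu)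
  have hμ : ∀ μ : Cfsg.IrrCharacter H, (μ : H → ℂ) 1 = 1 ∧
      ((μ : H → ℂ) uu = 1 ∨ (μ : H → ℂ) uu = omega ∨ (μ : H → ℂ) uu = conj omega) := by
    intro μ
    have h1 := Char.IsIrr.degree_one_of_comm μ.2 fun a b : H => mul_comm' a b
    obtain ⟨f, hf⟩ := Char.IsChar.exists_hom (Char.IsIrr.isCharacter μ.2) h1
    refine ⟨h1, ?_⟩
    rw [hf]
    refine cube_root ?_
    show ((f uu : ℂˣ) : ℂ) ^ 3 = 1
    rw [← Units.val_pow_eq_pow_val, ← map_pow, hu', map_one, Units.val_one]
  have e1 := congrFun hexp 1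
  have e2 := congrFun hexp uu
  simp only [Finset.sum_apply, Pi.smul_apply, smul_eq_mul, hm, OneMemClass.coe_one] at e1 e2
  rw [value_one, Finset.sum_congr rfl (g := fun μ => (m μ : ℂ)) fun μ _ => by
    rw [(hμ μ).1, mul_one]] at e1
  have e1' : (deg χ : ℤ) = ∑ μ, (m μ : ℤ) := by exact_mod_cast e1
  obtain ⟨k, hk⟩ : ∃ k : Cfsg.IrrCharacter H → Fin 3, ∀ μ : Cfsg.IrrCharacter H,
      (μ : H → ℂ) uu = ![1, omega, conj omega] (k μ) := by
    refine ⟨fun μ => if (μ : H → ℂ) uu = 1 then 0 else if (μ : H → ℂ) uu = omega then 1 else 2,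
      fun μ => ?_⟩
    dsimp only
    split_ifs with h1 h2
    · simp [h1]
    · simp [h2]
    · simpa using ((hμ μ).2.resolve_left h1).resolve_left h2
  refine ⟨∑ μ ∈ Finset.univ.filter (fun μ => k μ = 0), (m μ : ℤ),
    ∑ μ ∈ Finset.univ.filter (fun μ => k μ = 1), (m μ : ℤ),
    ∑ μ ∈ Finset.univ.filter (fun μ => k μ = 2), (m μ : ℤ), ?_, ?_⟩
  · rw [e1', ← Finset.sum_fiberwise Finset.univ k, Fin.sum_univ_three]
  · have e2' : (χ : G → ℂ) u = ∑ μ, (m μ : ℂ) * (μ : H → ℂ) uu := by
      rw [← e2, huu]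
    rw [e2', ← Finset.sum_fiberwise Finset.univ k, Fin.sum_univ_three]
    push_cast
    rw [Finset.sum_mul, Finset.sum_mul]
    refine congrArg₂ (· + ·) (congrArg₂ (· + ·) ?_ ?_) ?_
    all_goals
      refine Finset.sum_congr rfl fun μ hμ' => ?_
      rw [hk, (Finset.mem_filter.1 hμ').2]
      simp

/-- An algebraic value: the squared modulus is a positive integer unless the degree is divisible
by three. -/
theorem three_value_norm (χ : Cfsg.IrrCharacter G) (hd : ¬ 3 ∣ deg χ) {u : G} (hu : u ^ 3 = 1) :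
    ∃ q : ℤ, 1 ≤ q ∧ Complex.normSq ((χ : G → ℂ) u) = (q : ℝ) := by
  obtain ⟨a, b, c, habc, hval⟩ := three_value χ hu
  refine ⟨a ^ 2 + b ^ 2 + c ^ 2 - a * b - b * c - c * a, ?_, ?_⟩
  · by_contra hlt
    have hq : (a - b) ^ 2 + (b - c) ^ 2 + (c - a) ^ 2 ≤ 0 := by nlinarith
    have h1 : a = b := by nlinarith [sq_nonneg (b - c), sq_nonneg (c - a), sq_nonneg (a - b)]
    have h2 : b = c := by nlinarith [sq_nonneg (b - c), sq_nonneg (c - a), sq_nonneg (a - b)]
    subst h1 h2
    exact hd (Int.natCast_dvd_natCast.1 ⟨a, by rw [← habc]; push_cast; ring⟩)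
  · rw [hval]
    simp only [Complex.normSq_apply, Complex.add_re, Complex.add_im, Complex.mul_re, Complex.mul_im,
      Complex.intCast_re, Complex.intCast_im, Complex.conj_re, Complex.conj_im, omega_re, omega_im]
    push_cast
    ring_nf
    rw [Real.sq_sqrt (by norm_num)]
    ring

/-- A real value is a rational integer congruent to the degree modulo three. -/
theorem three_value_real (χ : Cfsg.IrrCharacter G) {u : G} (hu : u ^ 3 = 1)
    (hr : ((χ : G → ℂ) u).im = 0) :
    ∃ v : ℤ, (χ : G → ℂ) u = v ∧ (3 : ℤ) ∣ deg χ - v := by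
  obtain ⟨a, b, c, habc, hval⟩ := three_value χ hu
  have hbc : b = c := by
    rw [hval] at hr
    simp [omega_im] at hr
    have h2 : ((b : ℝ) - c) * (Real.sqrt 3 / 2) = 0 := by linear_combination hr
    have h3 : (b : ℝ) - c = 0 := (mul_eq_zero.1 h2).resolve_right (by positivity)
    exact_mod_cast sub_eq_zero.1 h3
  subst hbc
  refine ⟨a - b, ?_, ⟨b, by rw [← habc]; ring⟩⟩
  rw [hval]
  apply Complex.ext
  · simp [omega_re]; ring
  · simp

/-- Integrality of a central character at a rational value. -/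
theorem dvd_index_mul (χ : Cfsg.IrrCharacter G) (g : G) {v : ℤ} (hv : (χ : G → ℂ) g = v) :
    (deg χ : ℤ) ∣ ((Subgroup.centralizer ({g} : Set G)).index : ℤ) * v := by
  have h := Char.centralCharacter_isIntegral χ.2 g
  rw [hv, value_one] at h
  have hd0 : (deg χ : ℚ) ≠ 0 := by exact_mod_cast (charDegree_pos χ.2).ne'
  obtain ⟨i, hi⟩ := Char.exists_int_of_isIntegral_rat
    (q := ((Subgroup.centralizer ({g} : Set G)).index : ℚ) * (v : ℚ) / (deg χ : ℚ))
    (by push_cast; exact h)
  rw [eq_div_iff hd0] at hi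
  have hi' : i * (deg χ : ℤ) = ((Subgroup.centralizer ({g} : Set G)).index : ℤ) * v := by
    exact_mod_cast hi
  exact ⟨i, by rw [← hi', mul_comm]⟩

theorem sum_normSq (g : G) :
    ∑ χ : Cfsg.IrrCharacter G, Complex.normSq ((χ : G → ℂ) g) =
      (Nat.card (Subgroup.centralizer ({g} : Set G)) : ℝ) := by
  classical
  have h := Char.second_orthogonality g g
  rw [if_pos (IsConj.refl g)] at h
  simp only [Complex.mul_conj] at h
  exact_mod_cast h

theorem three_arith {c n : ℕ} {Q s v : ℤ} (hQ3 : 3 ≤ Q) (hc144 : c ∣ 144) (hc9 : 9 ∣ c)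
    (hcn : c * n = 7920) (hdvd : (16 : ℤ) ∣ (n : ℤ) * s)
    (hnorm : 1 + Q + 2 * s ^ 2 + v ^ 2 + 2 * (1 + v + 2 * s) ^ 2 = (c : ℤ))
    (hs3 : (3 : ℤ) ∣ 16 - s) (hv3 : (3 : ℤ) ∣ 11 - v) : c = 18 ∧ s = -2 ∧ v = 2 := by
  obtain ⟨k, hk, hk'⟩ : ∃ k ∈ ({1, 2, 4, 8, 16} : Finset ℕ), c = 9 * k := by
    obtain ⟨k, rfl⟩ := hc9
    have hk16 : k ∣ 16 := by
      have : 9 * k ∣ 9 * 16 := by norm_num; exact hc144
      exact Nat.dvd_of_mul_dvd_mul_left (by norm_num) this
    exact ⟨k, by
      have := Nat.le_of_dvd (by norm_num) hk16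
      interval_cases k <;> simp at hk16 ⊢, rfl⟩
  have hv0 : 1 ≤ v ^ 2 := by
    have : v ≠ 0 := by omega
    nlinarith [mul_self_pos.2 this]
  have he0 : 1 ≤ (1 + v + 2 * s) ^ 2 := by
    have : (1 + v + 2 * s) ≠ 0 := by omega
    nlinarith [mul_self_pos.2 this]
  simp only [Finset.mem_insert, Finset.mem_singleton] at hk
  rcases hk with rfl | rfl | rfl | rfl | rfl <;> subst hk' <;> norm_num at hcn hnorm ⊢
  · have h1 : s ^ 2 ≤ 2 := by nlinarith
    have h2 : -1 ≤ s ∧ s ≤ 1 := ⟨by nlinarith, by nlinarith⟩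
    obtain rfl : s = 1 := by omega
    have h3 : -1 ≤ v ∧ v ≤ 1 := ⟨by nlinarith, by nlinarith⟩
    obtain rfl : v = -1 := by omega
    norm_num at hnorm
    omega
  · obtain rfl : n = 440 := by omega
    have h2 : -2 ≤ s ∧ s ≤ 2 := ⟨by nlinarith, by nlinarith⟩
    obtain rfl : s = -2 := by push_cast at hdvd; omega
    have h3 : -2 ≤ v ∧ v ≤ 2 := ⟨by nlinarith, by nlinarith⟩
    refine ⟨rfl, ?_⟩
    rcases (show v = 2 ∨ v = -1 by omega) with rfl | rfl
    · rfl
    · norm_num at hnorm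
      omega
  · obtain rfl : n = 220 := by omega
    have h2 : -3 ≤ s ∧ s ≤ 3 := ⟨by nlinarith, by nlinarith⟩
    push_cast at hdvd
    omega
  · obtain rfl : n = 110 := by omega
    have h2 : -6 ≤ s ∧ s ≤ 6 := ⟨by nlinarith, by nlinarith⟩
    push_cast at hdvd
    omega
  · obtain rfl : n = 55 := by omega
    have h2 : -8 ≤ s ∧ s ≤ 8 := ⟨by nlinarith, by nlinarith⟩
    push_cast at hdvd
    omega

variable [IsSimpleGroup G] (hG : Nat.card G = 7920)
include hG

theorem card_centralizer_mul_index (g : G) :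
    Nat.card (Subgroup.centralizer ({g} : Set G)) * (Subgroup.centralizer ({g} : Set G)).index =
      7920 := by
  rw [Subgroup.card_mul_index, hG]

/-- Only elements of order 5 or 11 have centralizers of order divisible by 5 or 11. -/
theorem centralizer_dvd (g : G) (hg : g ≠ 1) (h5 : ¬ 5 ∣ orderOf g) (h11 : ¬ 11 ∣ orderOf g) :
    Nat.card (Subgroup.centralizer ({g} : Set G)) ∣ 144 := by
  haveI : Fact (Nat.Prime 11) := ⟨by norm_num⟩
  haveI : Fact (Nat.Prime 5) := ⟨by norm_num⟩
  have key : ∀ p : ℕ, (hp : Fact p.Prime) → (∀ P : Sylow p G,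
      Nat.card (Subgroup.centralizer (P : Set G)) = p ∧ Nat.card (P : Subgroup G) = p) →
      ¬ p ∣ orderOf g → ¬ p ∣ Nat.card (Subgroup.centralizer ({g} : Set G)) := by
    intro p hp hP hpg hdvd
    obtain ⟨w, hw⟩ := exists_prime_orderOf_dvd_card' p hdvd
    have hw' : orderOf (w : G) = p := by rw [Subgroup.orderOf_coe]; exact hw
    obtain ⟨Q, hQ⟩ := (IsPGroup.of_card (p := p) (n := 1)
      (by rw [Nat.card_zpowers, hw', pow_one]) : IsPGroup p (Subgroup.zpowers (w : G))).exists_le_sylow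
    obtain ⟨hC, hQc⟩ := hP Q
    have hQe : Subgroup.zpowers (w : G) = (Q : Subgroup G) :=
      Subgroup.eq_of_le_of_card_ge hQ (by rw [Nat.card_zpowers, hw', hQc])
    have hgQ : g ∈ Subgroup.centralizer (Q : Set G) := by
      change g ∈ Subgroup.centralizer ((Q : Subgroup G) : Set G)
      rw [← hQe]
      refine Subgroup.mem_centralizer_iff.2 fun y hy => ?_
      obtain ⟨k, rfl⟩ := Subgroup.mem_zpowers_iff.1 hy
      exact (Commute.zpow_left (Subgroup.mem_centralizer_singleton_iff.1 w.2) k).eq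
    have h1 := Subgroup.orderOf_dvd_natCard _ hgQ
    rw [hC] at h1
    rcases (Fact.out : p.Prime).eq_one_or_self_of_dvd _ h1 with h2 | h2
    · exact hg (orderOf_eq_one_iff.1 h2)
    · exact hpg (h2 ▸ dvd_rfl)
  have h5' := key 5 inferInstance (fun P => ⟨(S4429.five hG P).2, (S4429.five hG P).1.card⟩) h5
  have h11' := key 11 inferInstance
    (fun P => ⟨(S4429.eleven hG P).2, (S4429.eleven hG P).1.card⟩) h11
  have hd : Nat.card (Subgroup.centralizer ({g} : Set G)) ∣ 144 * 55 := by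
    rw [show 144 * 55 = 7920 by norm_num, ← hG]; exact Subgroup.card_subgroup_dvd_card _
  refine Nat.Coprime.dvd_of_dvd_mul_right ?_ hd
  rw [show 55 = 5 * 11 by norm_num]
  exact Nat.Coprime.mul_right (((Nat.Prime.coprime_iff_not_dvd (by norm_num)).2 h5').symm)
    (((Nat.Prime.coprime_iff_not_dvd (by norm_num)).2 h11').symm)

/-- A character determined by its degree is real. -/
theorem real_of_unique {χ : Cfsg.IrrCharacter G} (h : ∀ ψ, deg ψ = deg χ → ψ = χ) (g : G) :
    ((χ : G → ℂ) g).im = 0 := by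
  refine (Char.conjIrr_eq_iff χ).1 (h _ ?_) g
  have h1 : ((deg (Char.conjIrr χ) : ℕ) : ℂ) = (deg χ : ℂ) := by
    rw [← value_one, Char.conjIrr_apply, value_one, map_natCast]
  exact_mod_cast h1

theorem table_cases (t : Table G) (χ : Cfsg.IrrCharacter G) :
    χ = triv G ∨ χ ∈ t.T ∨ χ = t.φ ∨ χ ∈ t.Y ∨ χ = t.a ∨ χ = t.b ∨ χ = t.c := by
  classical
  by_contra h
  simp only [not_or] at h
  obtain ⟨h1, h2, h3, h4, h5, h6, h7⟩ := h
  have hs := t.split fun ψ => if ψ = χ then (1 : ℂ) else 0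
  have z1 : ∑ ψ ∈ t.T, (if ψ = χ then (1 : ℂ) else 0) = 0 :=
    Finset.sum_eq_zero fun ψ hψ => if_neg fun e => h2 (by rw [← e]; exact hψ)
  have z2 : ∑ ψ ∈ t.Y, (if ψ = χ then (1 : ℂ) else 0) = 0 :=
    Finset.sum_eq_zero fun ψ hψ => if_neg fun e => h4 (by rw [← e]; exact hψ)
  rw [Finset.sum_ite_eq' Finset.univ χ fun _ => (1 : ℂ), if_pos (Finset.mem_univ _),
    if_neg (Ne.symm h1), if_neg (Ne.symm h3), if_neg (Ne.symm h5), if_neg (Ne.symm h6),
    if_neg (Ne.symm h7), z1, z2] at hs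
  norm_num at hs

theorem column (t : Table G) {g : G} (hg : g ≠ 1) :
    1 + 10 * ∑ χ ∈ t.T, (χ : G → ℂ) g + 45 * (t.φ : G → ℂ) g +
      16 * ∑ χ ∈ t.Y, (χ : G → ℂ) g + 11 * (t.a : G → ℂ) g + 44 * (t.b : G → ℂ) g +
      55 * (t.c : G → ℂ) g = 0 := by
  classical
  have h := Char.regular_eq_sum (G := G) g
  rw [if_neg hg, t.split] at h
  simp only [value_one] at h
  rw [t.degφ, t.dega, t.degb, t.degc,
    Finset.sum_congr rfl (s₁ := t.T) (g := fun χ => (10 : ℂ) * (χ : G → ℂ) g) fun χ hχ => by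
      rw [t.degT χ hχ]; norm_num,
    Finset.sum_congr rfl (s₁ := t.Y) (g := fun χ => (16 : ℂ) * (χ : G → ℂ) g) fun χ hχ => by
      rw [t.degY χ hχ]; norm_num,
    ← Finset.mul_sum, ← Finset.mul_sum,
    show deg (triv G : Cfsg.IrrCharacter G) = 1 from
      charDegree_eq (by show (1 : ℂ) = _; simp)] at h
  simp [Blocks.triv] at h
  linear_combination h

theorem norm_split (t : Table G) (g : G) :
    1 + ∑ χ ∈ t.T, Complex.normSq ((χ : G → ℂ) g) + Complex.normSq ((t.φ : G → ℂ) g) +
      ∑ χ ∈ t.Y, Complex.normSq ((χ : G → ℂ) g) + Complex.normSq ((t.a : G → ℂ) g) +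
      Complex.normSq ((t.b : G → ℂ) g) + Complex.normSq ((t.c : G → ℂ) g) =
      (Nat.card (Subgroup.centralizer ({g} : Set G)) : ℝ) := by
  classical
  have h := t.split fun χ => (Complex.normSq ((χ : G → ℂ) g) : ℂ)
  rw [← Complex.ofReal_sum, sum_normSq] at h
  have h' : ((Nat.card (Subgroup.centralizer ({g} : Set G)) : ℝ) : ℂ) =
      ((1 + ∑ χ ∈ t.T, Complex.normSq ((χ : G → ℂ) g) + Complex.normSq ((t.φ : G → ℂ) g) +
      ∑ χ ∈ t.Y, Complex.normSq ((χ : G → ℂ) g) + Complex.normSq ((t.a : G → ℂ) g) +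
      Complex.normSq ((t.b : G → ℂ) g) + Complex.normSq ((t.c : G → ℂ) g) : ℝ) : ℂ) := by
    rw [h]
    simp [Blocks.triv]
  exact (Complex.ofReal_inj.1 h').symm

theorem card_sylow_three [Fact (Nat.Prime 3)] (P : Sylow 3 G) :
    Nat.card (P : Subgroup G) = 9 := by
  rw [P.card_eq_multiplicity, hG, show (7920 : ℕ) = 3 ^ 2 * 880 by norm_num,
    Nat.factorization_mul (by norm_num) (by norm_num), Finsupp.add_apply,
    Nat.Prime.factorization_pow (by norm_num), Finsupp.single_eq_same,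
    Nat.factorization_eq_zero_of_not_dvd (by norm_num)]
  norm_num

theorem card_sylow_two [Fact (Nat.Prime 2)] (P : Sylow 2 G) :
    Nat.card (P : Subgroup G) = 16 := by
  rw [P.card_eq_multiplicity, hG, show (7920 : ℕ) = 2 ^ 4 * 495 by norm_num,
    Nat.factorization_mul (by norm_num) (by norm_num), Finsupp.add_apply,
    Nat.Prime.factorization_pow (by norm_num), Finsupp.single_eq_same,
    Nat.factorization_eq_zero_of_not_dvd (by norm_num)]
  norm_num

set_option maxHeartbeats 800000 in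
/-- The order of the centralizer of an element of order three is 18, and the values there. -/
theorem three_data (t : Table G) {u : G} (hu : orderOf u = 3) :
    Nat.card (Subgroup.centralizer ({u} : Set G)) = 18 ∧
      (∀ χ ∈ t.T, (χ : G → ℂ) u = 1) ∧ (t.φ : G → ℂ) u = 0 ∧
      (∀ θ ∈ t.Y, (θ : G → ℂ) u = -2) ∧ (t.a : G → ℂ) u = 2 ∧ (t.b : G → ℂ) u = -1 ∧
      (t.c : G → ℂ) u = 1 := by
  classical
  have hu1 : u ≠ 1 := fun e => by rw [e, orderOf_one] at hu; omega
  have hu3 : u ^ 3 = 1 := hu ▸ pow_orderOf_eq_one u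
  have hφ : (t.φ : G → ℂ) u = 0 :=
    Char.defect_zero t.φ.2 Nat.prime_three (n := 2) (d := 45) (by rw [hG]; norm_num)
      (by rw [hG]; norm_num) (by rw [value_one, t.degφ]) (by norm_num) u (by rw [hu])
  have h11 : ¬ 11 ∣ orderOf u := by rw [hu]; norm_num
  have h5 : ¬ 5 ∣ orderOf u := by rw [hu]; norm_num
  have hY : ∀ θ ∈ t.Y, (θ : G → ℂ) u = 1 - ∑ χ ∈ t.T, (χ : G → ℂ) u := fun θ hθ => by
    rw [t.rel11 θ hθ u h11, hφ, add_zero]
  obtain ⟨θ, hθ⟩ : t.Y.Nonempty := Finset.card_pos.1 (by rw [t.cardY]; norm_num)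
  have hsumY : ∑ θ' ∈ t.Y, (θ' : G → ℂ) u = 2 * (θ : G → ℂ) u := by
    rw [Finset.sum_congr rfl (g := fun _ => (θ : G → ℂ) u) fun θ' hθ' => by
      rw [hY θ' hθ', hY θ hθ], Finset.sum_const, t.cardY, two_nsmul, two_mul]
  have h5r := t.rel5 u h5
  rw [hsumY] at h5r
  have hra := real_of_unique hG (χ := t.a) (fun ψ h => t.uniqa ψ (h.trans t.dega)) u
  have hrb := real_of_unique hG (χ := t.b) (fun ψ h => t.uniqb ψ (h.trans t.degb)) u
  have hrc := real_of_unique hG (χ := t.c) (fun ψ h => t.uniqc ψ (h.trans t.degc)) u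
  have hrθ : ((θ : G → ℂ) u).im = 0 := by
    have := congrArg Complex.im h5r
    simp [hra, hrb] at this
    linarith
  obtain ⟨v, hv, hv3⟩ := three_value_real t.a hu3 hra
  obtain ⟨e, he, he3⟩ := three_value_real t.b hu3 hrb
  obtain ⟨w, hw, hw3⟩ := three_value_real t.c hu3 hrc
  obtain ⟨s, hs, hs3⟩ := three_value_real θ hu3 hrθ
  rw [t.dega] at hv3
  rw [t.degb] at he3
  rw [t.degY θ hθ] at hs3
  have hev : e = 1 + v + 2 * s := by
    have h : (1 : ℂ) + v + 2 * s - e = 0 := by rw [← hv, ← he, ← hs]; exact h5r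
    have : (1 : ℤ) + v + 2 * s - e = 0 := by exact_mod_cast h
    omega
  have hT : ∑ χ ∈ t.T, (χ : G → ℂ) u = ((1 - s : ℤ) : ℂ) := by
    have h := hY θ hθ
    rw [hs] at h
    push_cast
    linear_combination h
  have hwv : w = -e := by
    have h := column hG t hu1
    rw [hT, hφ, hsumY, hs, hv, he, hw] at h
    have h' : (1 : ℤ) + 10 * (1 - s) + 45 * 0 + 16 * (2 * s) + 11 * v + 44 * e + 55 * w = 0 := by
      exact_mod_cast h
    omega
  -- norms
  choose q hq1 hq using fun χ : t.T => three_value_norm (χ : Cfsg.IrrCharacter G)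
    (by rw [t.degT χ χ.2]; norm_num) hu3
  obtain ⟨Q, hQ⟩ : ∃ Q : ℤ, Q = ∑ χ : t.T, q χ := ⟨_, rfl⟩
  have hQ3 : 3 ≤ Q := by
    rw [hQ]
    have := Finset.card_nsmul_le_sum (Finset.univ : Finset t.T) q 1 fun χ _ => hq1 χ
    simpa [t.cardT] using this
  have hQs : (∑ χ ∈ t.T, Complex.normSq ((χ : G → ℂ) u) : ℝ) = (Q : ℝ) := by
    rw [← Finset.sum_coe_sort, hQ]
    push_cast
    exact Finset.sum_congr rfl fun χ _ => hq χ
  obtain ⟨c, hc⟩ : ∃ c, c = Nat.card (Subgroup.centralizer ({u} : Set G)) := ⟨_, rfl⟩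
  have hnorm : 1 + Q + 2 * s ^ 2 + v ^ 2 + 2 * e ^ 2 = (c : ℤ) := by
    have h := norm_split hG t u
    rw [hQs, hφ, map_zero, Finset.sum_congr rfl (g := fun _ => ((s : ℝ)) ^ 2) fun θ' hθ' => by
        rw [show (θ' : G → ℂ) u = (s : ℂ) by rw [hY θ' hθ', ← hY θ hθ, hs], Complex.normSq_intCast]
        ring,
      Finset.sum_const, t.cardY, hv, he, hw, hwv, Complex.normSq_intCast, Complex.normSq_intCast,
      Complex.normSq_intCast, ← hc, two_nsmul] at h
    push_cast at h
    have : ((1 + Q + 2 * s ^ 2 + v ^ 2 + 2 * e ^ 2 : ℤ) : ℝ) = ((c : ℤ) : ℝ) := by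
      push_cast
      linarith
    exact_mod_cast this
  have hc144 : c ∣ 144 := hc ▸ centralizer_dvd hG u hu1 h5 h11
  have hc9 : 9 ∣ c := by
    haveI : Fact (Nat.Prime 3) := ⟨Nat.prime_three⟩
    obtain ⟨P, hP⟩ := (IsPGroup.of_card (p := 3) (n := 1)
      (by rw [Nat.card_zpowers, hu, pow_one]) : IsPGroup 3 (Subgroup.zpowers u)).exists_le_sylow
    have hP9 := card_sylow_three hG P
    have hcomm := IsPGroup.commutative_of_card_eq_prime_sq (p := 3) (G := (P : Subgroup G))
      (by rw [hP9]; norm_num)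
    have hle : (P : Subgroup G) ≤ Subgroup.centralizer ({u} : Set G) := fun y hy =>
      Subgroup.mem_centralizer_singleton_iff.2
        (congrArg Subtype.val (hcomm ⟨y, hy⟩ ⟨u, hP (Subgroup.mem_zpowers u)⟩) :)
    rw [hc, ← hP9]
    exact Subgroup.card_dvd_of_le hle
  have hdvd := dvd_index_mul θ u hs
  rw [t.degY θ hθ] at hdvd
  obtain ⟨n, hn⟩ : ∃ n, n = (Subgroup.centralizer ({u} : Set G)).index := ⟨_, rfl⟩
  rw [← hn] at hdvd
  have hcn : c * n = 7920 := by rw [hc, hn, card_centralizer_mul_index hG]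
  have hsmall : c = 18 ∧ s = -2 ∧ v = 2 :=
    three_arith (c := c) (n := n) (Q := Q) hQ3 hc144 hc9 hcn
      (by simpa using hdvd) (by subst hev; exact hnorm) (by omega) (by omega)
  obtain ⟨hc18, rfl, rfl⟩ := hsmall
  norm_num at hev
  subst hev
  norm_num at hwv
  subst hwv
  subst hc18
  norm_num at hnorm
  have hQeq : Q = 3 := by omega
  refine ⟨hc.symm, fun χ hχ => ?_, hφ, fun θ' hθ' => ?_, by simpa using hv, by simpa using he,
    by simpa using hw⟩
  · -- equality in Cauchy-Schwarz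
    have hq' : ∀ χ : t.T, q χ = 1 := fun χ => by
      have h := Finset.single_le_sum (f := fun χ => q χ - 1)
        (fun χ _ => by have := hq1 χ; omega) (Finset.mem_univ χ)
      have h2 : ∑ χ : t.T, (q χ - 1) = 0 := by
        rw [Finset.sum_sub_distrib, ← hQ, hQeq]
        simp [t.cardT]
      have := hq1 χ
      omega
    have hre : ∀ χ ∈ t.T, ((χ : G → ℂ) u).re ≤ 1 := fun χ hχ => by
      have h := hq ⟨χ, hχ⟩
      rw [hq' ⟨χ, hχ⟩, Complex.normSq_apply] at h
      push_cast at h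
      nlinarith
    have hsum : ∑ χ ∈ t.T, (1 - ((χ : G → ℂ) u).re) = 0 := by
      have h := congrArg Complex.re hT
      rw [Complex.re_sum] at h
      rw [Finset.sum_sub_distrib, h]
      simp [t.cardT]
    have h1 : ((χ : G → ℂ) u).re = 1 := by
      have := (Finset.sum_eq_zero_iff_of_nonneg (fun χ hχ => sub_nonneg.2 (hre χ hχ))).1 hsum χ hχ
      linarith
    have h2 := hq ⟨χ, hχ⟩
    rw [hq' ⟨χ, hχ⟩, Complex.normSq_apply, h1] at h2
    push_cast at h2
    apply Complex.ext
    · simpa using h1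
    · simp only [Complex.one_im]
      nlinarith
  · rw [hY θ' hθ', ← hY θ hθ, hs]
    norm_num

/-- All elements of order three are conjugate. -/
theorem three_conj {u w : G} (hu : orderOf u = 3) (hw : orderOf w = 3) : IsConj u w := by
  obtain ⟨t⟩ := exists_table hG
  obtain ⟨-, a1, a2, a3, a4, a5, a6⟩ := three_data hG t hu
  obtain ⟨-, b1, b2, b3, b4, b5, b6⟩ := three_data hG t hw
  refine (Char.isConj_iff_forall_irr u w).2 fun χ => ?_
  rcases table_cases hG t χ with rfl | h | rfl | h | rfl | rfl | rfl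
  · rfl
  · rw [a1 χ h, b1 χ h]
  · rw [a2, b2]
  · rw [a3 χ h, b3 χ h]
  · rw [a4, b4]
  · rw [a5, b5]
  · rw [a6, b6]

theorem three_centralizer {u : G} (hu : orderOf u = 3) :
    Nat.card (Subgroup.centralizer ({u} : Set G)) = 18 := by
  obtain ⟨t⟩ := exists_table hG
  exact (three_data hG t hu).1

/-- There are at most 217 involutions. -/
theorem card_involutions_le : Nat.card {z : G // orderOf z = 2} ≤ 217 := by
  classical
  obtain ⟨t⟩ := exists_table hG
  have hsum : ∑ χ : Cfsg.IrrCharacter G, (deg χ : ℝ) = 218 := by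
    have h := t.split fun χ => ((deg χ : ℝ) : ℂ)
    rw [← Complex.ofReal_sum, t.degφ, t.dega, t.degb, t.degc,
      show deg (triv G : Cfsg.IrrCharacter G) = 1 from charDegree_eq (by show (1 : ℂ) = _; simp),
      Finset.sum_congr rfl (s₁ := t.T) (g := fun _ => (10 : ℂ)) fun χ hχ => by
        rw [t.degT χ hχ]; norm_num,
      Finset.sum_congr rfl (s₁ := t.Y) (g := fun _ => (16 : ℂ)) fun χ hχ => by
        rw [t.degY χ hχ]; norm_num] at h
    simp [t.cardT, t.cardY] at h
    have h' : ((∑ χ : Cfsg.IrrCharacter G, (deg χ : ℝ) : ℝ) : ℂ) = ((218 : ℝ) : ℂ) := by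
      rw [Complex.ofReal_sum]
      push_cast
      linear_combination h
    exact Complex.ofReal_inj.1 h'
  have hsq : (Nat.card {s : G // s * s = 1} : ℝ) ≤ 218 := by
    have h := congrArg Complex.re (Char.card_sqrt_eq_sum (G := G) 1)
    rw [Complex.natCast_re, Complex.re_sum] at h
    rw [h, ← hsum]
    refine Finset.sum_le_sum fun χ _ => ?_
    rw [value_one]
    rcases Char.fsInd_irr χ with ⟨h1, -⟩ | ⟨h1 | h1, -⟩ <;> simp [h1]
  have hlt : Nat.card {z : G // orderOf z = 2} < Nat.card {s : G // s * s = 1} := by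
    rw [Nat.card_eq_fintype_card, Nat.card_eq_fintype_card]
    refine Fintype.card_lt_of_injective_of_notMem
      (fun z => ⟨z.1, by
        have h := pow_orderOf_eq_one z.1
        rw [z.2, pow_two] at h
        exact h⟩) (fun x y h => Subtype.ext (congrArg Subtype.val h :))
      (b := ⟨1, mul_one 1⟩) ?_
    rintro ⟨z, hz⟩
    have := congrArg Subtype.val hz
    have h2 := z.2
    rw [show z.1 = 1 from this, orderOf_one] at h2
    omega
  have : Nat.card {s : G // s * s = 1} ≤ 218 := by exact_mod_cast hsq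
  omega

/-- An involution centralizer does not have order 144. -/
theorem inv_centralizer_ne (t : Table G) {z : G} (hz : orderOf z = 2) :
    Nat.card (Subgroup.centralizer ({z} : Set G)) ≠ 144 := by
  classical
  intro hc
  have hna := S4429.not_comm (G := G) hG
  choose val hval hpar hlo hhi hdvd _hne using fun χ : Cfsg.IrrCharacter G =>
    S4429.inv_value hna χ hz
  have hn : (Subgroup.centralizer ({z} : Set G)).index = 55 := by
    have := card_centralizer_mul_index hG z
    rw [hc] at this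
    omega
  have hz11 : ¬ 11 ∣ orderOf z := by rw [hz]; norm_num
  have hz5 : ¬ 5 ∣ orderOf z := by rw [hz]; norm_num
  have hz1 : z ≠ 1 := fun e => by rw [e, orderOf_one] at hz; omega
  have hY : ∀ θ ∈ t.Y, val θ = 0 := fun θ hθ => by
    have h : (θ : G → ℂ) z = 0 :=
      Char.defect_zero θ.2 Nat.prime_two (n := 4) (d := 16) (by rw [hG]; norm_num)
        (by rw [hG]; norm_num) (by rw [value_one, t.degY θ hθ]) (by norm_num) z (by rw [hz])
    rw [hval] at h
    exact_mod_cast h
  obtain ⟨θ, hθ⟩ : t.Y.Nonempty := Finset.card_pos.1 (by rw [t.cardY]; norm_num)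
  have h11 := t.rel11 θ hθ z hz11
  have h5 := t.rel5 z hz5
  have hcol := column hG t hz1
  have hsY : ∑ θ' ∈ t.Y, (θ' : G → ℂ) z = 0 :=
    Finset.sum_eq_zero fun θ' hθ' => by rw [hval, hY θ' hθ', Int.cast_zero]
  simp only [hval, ← Int.cast_sum] at h11 h5 hcol hsY
  rw [hY θ hθ] at h11
  rw [hsY] at h5 hcol
  obtain ⟨S, hS⟩ : ∃ S, S = ∑ χ ∈ t.T, val χ := ⟨_, rfl⟩
  rw [← hS] at h11 hcol
  have e11 : (0 : ℤ) = 1 - S + val t.φ := by exact_mod_cast h11
  have e5 : (1 : ℤ) + val t.a + 0 - val t.b = 0 := by exact_mod_cast h5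
  have ecol : (1 : ℤ) + 10 * S + 45 * val t.φ + 16 * 0 + 11 * val t.a + 44 * val t.b +
      55 * val t.c = 0 := by exact_mod_cast hcol
  have hnorm : 1 + ∑ χ ∈ t.T, val χ ^ 2 + val t.φ ^ 2 + val t.a ^ 2 + val t.b ^ 2 + val t.c ^ 2 =
      144 := by
    have h := norm_split hG t z
    simp only [hval, Complex.normSq_intCast] at h
    rw [Finset.sum_eq_zero (s := t.Y) fun θ' hθ' => by simp [hY θ' hθ'], hc] at h
    have h' : ((1 + ∑ χ ∈ t.T, val χ ^ 2 + val t.φ ^ 2 + val t.a ^ 2 + val t.b ^ 2 +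
        val t.c ^ 2 : ℤ) : ℝ) = ((144 : ℤ) : ℝ) := by
      push_cast
      simp only [pow_two]
      push_cast at h
      linarith
    exact_mod_cast h'
  have hCS : S ^ 2 ≤ 3 * ∑ χ ∈ t.T, val χ ^ 2 := by
    have h := sq_sum_le_card_mul_sum_sq (s := t.T) (f := val)
    rw [t.cardT, ← hS] at h
    exact_mod_cast h
  have h45 := hdvd t.φ
  rw [show Cfsg.charDegree (t.φ : G → ℂ) = 45 from t.degφ, hn] at h45
  have hbound : val t.φ ^ 2 ≤ 143 := by
    nlinarith [Finset.sum_nonneg (s := t.T) fun χ _ => sq_nonneg (val χ), sq_nonneg (val t.a),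
      sq_nonneg (val t.b), sq_nonneg (val t.c)]
  have hodd := hpar t.φ
  rw [show Cfsg.charDegree (t.φ : G → ℂ) = 45 from t.degφ] at hodd
  have hr : -11 ≤ val t.φ ∧ val t.φ ≤ 11 := ⟨by nlinarith, by nlinarith⟩
  have hb : val t.b = 1 + val t.a := by omega
  have hcv : val t.c = -1 - val t.φ - val t.a := by omega
  rw [hb, hcv] at hnorm
  rcases (show val t.φ = 9 ∨ val t.φ = -9 by push_cast at h45; omega) with h | h
  · rw [h] at hnorm e11
    obtain rfl : S = 10 := by omega
    nlinarith [sq_nonneg (3 * val t.a + 11)]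
  · rw [h] at hnorm e11
    obtain rfl : S = -8 := by omega
    nlinarith [sq_nonneg (3 * val t.a - 7)]

/-- Involutions are conjugate, with centralizers of order 48. -/
theorem inv_data : (∀ z : G, orderOf z = 2 → Nat.card (Subgroup.centralizer ({z} : Set G)) = 48) ∧
    ∀ z w : G, orderOf z = 2 → orderOf w = 2 → IsConj z w := by
  classical
  obtain ⟨t⟩ := exists_table hG
  haveI : Fact (Nat.Prime 2) := ⟨Nat.prime_two⟩
  have hclass : ∀ z : G, orderOf z = 2 →
      Nat.card {w : G // IsConj z w} = (Subgroup.centralizer ({z} : Set G)).index := fun z _ =>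
    Char.card_isConj_eq_index z
  have hle : ∀ z : G, orderOf z = 2 →
      Nat.card {w : G // IsConj z w} ≤ 217 := by
    intro z hz
    refine le_trans ?_ (card_involutions_le hG)
    refine Nat.card_le_card_of_injective (fun w => ⟨w.1, ?_⟩) fun a b h =>
      Subtype.ext (congrArg Subtype.val h :)
    obtain ⟨k, hk⟩ := isConj_iff.1 w.2
    rw [← hk, ← hz]
    exact (MulAut.conj k).orderOf_eq z
  have hfacts : ∀ z : G, orderOf z = 2 →
      Nat.card (Subgroup.centralizer ({z} : Set G)) = 48 ∨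
        Nat.card (Subgroup.centralizer ({z} : Set G)) = 72 := by
    intro z hz
    have h144 := centralizer_dvd hG z (fun e => by rw [e, orderOf_one] at hz; omega)
      (by rw [hz]; norm_num) (by rw [hz]; norm_num)
    have hmul := card_centralizer_mul_index hG z
    have h217 := hle z hz
    rw [hclass z hz] at h217
    have hne := inv_centralizer_ne hG t hz
    obtain ⟨k, hk⟩ := h144
    obtain ⟨c, hc⟩ : ∃ c, c = Nat.card (Subgroup.centralizer ({z} : Set G)) := ⟨_, rfl⟩
    rw [← hc] at hmul hne hk ⊢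
    have hc37 : 37 ≤ c := by nlinarith
    have hc144' : c ≤ 144 := Nat.le_of_dvd (by norm_num) ⟨k, hk⟩
    have hk3 : k ≤ 3 := by nlinarith
    interval_cases k <;> omega
  obtain ⟨P⟩ : Nonempty (Sylow 2 G) := inferInstance
  have hP16 := card_sylow_two hG P
  haveI : Nontrivial (P : Subgroup G) :=
    Finite.one_lt_card_iff_nontrivial.1 (by rw [hP16]; norm_num)
  haveI := P.isPGroup'.center_nontrivial
  obtain ⟨x, hx⟩ := exists_prime_orderOf_dvd_card' 2
    (show 2 ∣ Nat.card (Subgroup.center (P : Subgroup G)) from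
      ((P.isPGroup'.to_subgroup _).exists_card_eq).elim fun n hn => by
        rcases n with _ | n
        · have := Finite.one_lt_card (α := Subgroup.center (P : Subgroup G))
          rw [hn] at this
          norm_num at this
        · rw [hn, pow_succ]; exact dvd_mul_left _ _)
  obtain ⟨z, hz⟩ : ∃ z : G, z = ((x : (P : Subgroup G)) : G) := ⟨_, rfl⟩
  have hzo : orderOf z = 2 := by rw [hz, Subgroup.orderOf_coe, Subgroup.orderOf_coe, hx]
  have hPle : (P : Subgroup G) ≤ Subgroup.centralizer ({z} : Set G) := fun y hy => by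
    rw [Subgroup.mem_centralizer_singleton_iff, hz]
    exact congrArg Subtype.val (Subgroup.mem_center_iff.1 x.2 ⟨y, hy⟩)
  have h16 := Subgroup.card_dvd_of_le hPle
  rw [hP16] at h16
  have hz48 : Nat.card (Subgroup.centralizer ({z} : Set G)) = 48 :=
    (hfacts z hzo).resolve_right fun e => by rw [e] at h16; norm_num at h16
  have hz165 : Nat.card {w : G // IsConj z w} = 165 := by
    rw [hclass z hzo]
    have := card_centralizer_mul_index hG z
    rw [hz48] at this
    omega
  have hall : ∀ w : G, orderOf w = 2 → IsConj z w := by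
    intro w hw
    by_contra hnw
    have hn : 110 ≤ Nat.card {v : G // IsConj w v} := by
      rw [hclass w hw]
      have := card_centralizer_mul_index hG w
      rcases hfacts w hw with h | h <;> rw [h] at this <;> omega
    have hsum : Nat.card ({v : G // IsConj z v} ⊕ {v : G // IsConj w v}) ≤
        Nat.card {v : G // orderOf v = 2} := by
      refine Nat.card_le_card_of_injective (Sum.elim (fun v => ⟨v.1, ?_⟩) (fun v => ⟨v.1, ?_⟩)) ?_
      · obtain ⟨k, hk⟩ := isConj_iff.1 v.2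
        rw [← hk, ← hzo]; exact (MulAut.conj k).orderOf_eq z
      · obtain ⟨k, hk⟩ := isConj_iff.1 v.2
        rw [← hk, ← hw]; exact (MulAut.conj k).orderOf_eq w
      · rintro (a | a) (b | b) h <;> simp only [Sum.elim_inl, Sum.elim_inr, Subtype.mk.injEq] at h
        · exact congrArg Sum.inl (Subtype.ext h)
        · exact absurd ((a.2).trans (h ▸ b.2.symm)) hnw
        · exact absurd ((b.2).trans (h ▸ a.2.symm)) hnw
        · exact congrArg Sum.inr (Subtype.ext h)
    rw [Nat.card_sum, hz165] at hsum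
    have := card_involutions_le hG
    omega
  refine ⟨fun w hw => ?_, fun v w hv hw => (hall v hv).symm.trans (hall w hw)⟩
  have h1 : Nat.card {v : G // IsConj w v} = 165 := by
    rw [← hz165]
    exact Nat.card_congr (Equiv.subtypeEquivRight fun v =>
      ⟨fun h => (hall w hw).trans h, fun h => (hall w hw).symm.trans h⟩)
  rw [hclass w hw] at h1
  have := card_centralizer_mul_index hG w
  rw [h1] at this
  omega

end Cfsg.Agent.Fg24.M11
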